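import Cfsg.Agent.Lib.JankoUnique.Thirty
import Mathlib.GroupTheory.Subgroup.Simple

/-!
# A centralizer and a further involution generate
-/

set_option autoImplicit false
set_option linter.style.haveILetI false
set_option maxRecDepth 100000

namespace CfsgLib.JankoUnique

open CfsgLib.JankoCent

theorem count_cases : ∀ n < 2927, n ∣ 2926 → n % 2 = 0 → n % 5 = 1 → n = 266 ∨ n = 2926 := by
  decide +kernel

variable {G : Type*} [Group G] {t u r x : G}

/-- The whole centralizer is spanned by a frame. -/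
theorem Ct_le_of_frame (e : Ct t ≃* M) (g alt : Bool) (f : Fin 4 → Ct t)
    (hf : ∀ i, cc e (f i) = cfg g alt i) (K : Subgroup G) (hK : ∀ i, (f i : G) ∈ K) : Ct t ≤ K := by
  have key : ∀ (w : List (Fin 4)) (b : Ct t), (b : G) ∈ K → ∃ b' : Ct t, (b' : G) ∈ K ∧
      cc e b' = w.foldl (fun acc i => tmul acc (cfg g alt i)) (cc e b) := by
    intro w
    induction w with
    | nil => exact fun b hb => ⟨b, hb, rfl⟩
    | cons i w ih =>
      intro b hb
      obtain ⟨b', hb', h⟩ := ih (b * f i) (mul_mem hb (hK i))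
      exact ⟨b', hb', by rw [h, cc_mul, hf, List.foldl_cons]⟩
  intro a ha
  have hm := cc_mem e ⟨a, ha⟩
  rw [← cfg_words g alt, List.mem_map] at hm
  obtain ⟨w, -, hw⟩ := hm
  obtain ⟨b, hb, h⟩ := key w 1 (one_mem K)
  rw [cc_one] at h
  have : b = ⟨a, ha⟩ := cc_injective e (h.trans hw)
  have h' : (b : G) = a := congrArg Subtype.val this
  exact h' ▸ hb

variable [Finite G] [IsSimpleGroup G]

theorem eq_top_of_frame (hG : IsModelGroup G) (ht : IsInvol t) (h5 : orderOf x = 5)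
    (hxt : Commute x t) (hr : IsInvol r) (hxr : Commute x r) (hne : r ≠ t) {i : G}
    (hix : i * x * i⁻¹ = x⁻¹) (K : Subgroup G) (hK : Ct t ≤ K) (hrK : r ∈ K)
    (hiK : i ∈ K) : K = ⊤ := by
  obtain ⟨hC, hN⟩ := cent_five hG h5 ht hxt
  have hxK : x ∈ K := hK (mem_Ct.2 hxt.eq)
  have htK : t ∈ K := hK (mem_Ct.2 rfl)
  have hCK : Ct x ≤ K := by
    have h3 : orderOf (r * t) = 3 := by
      haveI : Fact (Nat.Prime 3) := ⟨Nat.prime_three⟩
      exact orderOf_eq_prime (cube_eq_one hG h5 ht hr hxt hxr hne)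
        fun h => hne ((eq_inv_of_mul_eq_one_left h).trans ht.inv_eq)
    have hd5 : 5 ∣ Nat.card (Ct x ⊓ K : Subgroup G) :=
      h5 ▸ Subgroup.orderOf_dvd_natCard _ ⟨mem_Ct.2 rfl, hxK⟩
    have hd2 : 2 ∣ Nat.card (Ct x ⊓ K : Subgroup G) :=
      ht.orderOf_eq ▸ Subgroup.orderOf_dvd_natCard _ ⟨mem_Ct.2 hxt.symm.eq, htK⟩
    have hd3 : 3 ∣ Nat.card (Ct x ⊓ K : Subgroup G) :=
      h3 ▸ Subgroup.orderOf_dvd_natCard _ ⟨mem_Ct.2 ((hxr.mul_right hxt).symm).eq, mul_mem hrK htK⟩
    have h30 : 30 ∣ Nat.card (Ct x ⊓ K : Subgroup G) :=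
      Nat.Coprime.mul_dvd_of_dvd_of_dvd (by norm_num : Nat.Coprime 6 5)
        (Nat.Coprime.mul_dvd_of_dvd_of_dvd (by norm_num : Nat.Coprime 2 3) hd2 hd3) hd5
    have := Subgroup.eq_of_le_of_card_ge (inf_le_left : Ct x ⊓ K ≤ Ct x)
      (by rw [hC]; exact Nat.le_of_dvd Nat.card_pos h30)
    exact this ▸ inf_le_right
  have hNK : nrm x ≤ K := by
    have hle : Ct x ≤ nrm x ⊓ K := le_inf centralizer_le_nrm hCK
    have hd := Subgroup.card_dvd_of_le hle
    have hd' := Subgroup.card_dvd_of_le (inf_le_left : nrm x ⊓ K ≤ nrm x)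
    rw [hC] at hd
    rw [hN] at hd'
    have hne30 : Nat.card (nrm x ⊓ K : Subgroup G) ≠ 30 := by
      intro h
      have := Subgroup.eq_of_le_of_card_ge hle (by rw [hC, h])
      have him : i ∈ Ct x := by
        rw [this]
        exact ⟨mem_nrm.2 (hix ▸ inv_mem (Subgroup.mem_zpowers x)), hiK⟩
      have hxx : x⁻¹ = x := by rw [← hix, mem_Ct.1 him, mul_inv_cancel_right]
      have h2 : x ^ 2 = 1 := by rw [sq]; nth_rewrite 1 [← hxx]; rw [inv_mul_cancel]
      have h6 := orderOf_dvd_of_pow_eq_one h2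
      rw [h5] at h6
      norm_num at h6
    have h60 : Nat.card (nrm x ⊓ K : Subgroup G) = 60 := by
      obtain ⟨q, hq⟩ := hd
      rw [hq] at hd' hne30 ⊢
      have : q ∣ 2 := Nat.dvd_of_mul_dvd_mul_left (by norm_num : 0 < 30) hd'
      rcases (Nat.dvd_prime Nat.prime_two).1 this with rfl | rfl
      · exact absurd rfl hne30
      · rfl
    have := Subgroup.eq_of_le_of_card_ge (inf_le_left : nrm x ⊓ K ≤ nrm x) (by rw [hN, h60])
    exact this ▸ inf_le_right
  have hNK' : Nat.card (nrm (⟨x, hxK⟩ : K)) = 60 := by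
    rw [← hN]
    refine Nat.card_eq_of_bijective (fun a => ⟨(a.1 : G), mem_nrm.2 ?_⟩) ⟨fun a b h => ?_, ?_⟩
    · obtain ⟨j, hj⟩ := Subgroup.mem_zpowers_iff.1 (mem_nrm.1 a.2)
      exact Subgroup.mem_zpowers_iff.2 ⟨j, by simpa using congrArg Subtype.val hj⟩
    · exact Subtype.ext (Subtype.ext (congrArg (fun z => (z.1 : G)) h))
    · rintro ⟨a, ha⟩
      obtain ⟨j, hj⟩ := Subgroup.mem_zpowers_iff.1 (mem_nrm.1 ha)
      exact ⟨⟨⟨a, hNK ha⟩, mem_nrm.2 (Subgroup.mem_zpowers_iff.2 ⟨j, Subtype.ext (by simpa using hj)⟩)⟩,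
        rfl⟩
  have hx' : orderOf (⟨x, hxK⟩ : K) = 5 := by rw [← Subgroup.orderOf_coe]; exact h5
  have hKG := Subgroup.card_subgroup_dvd_card K
  rw [hG.card] at hKG
  obtain ⟨n, hn, hcard⟩ := exists_count (A := K) (by norm_num : Nat.Prime 5) hx'
    (fun h => by have := h.trans hKG; norm_num at this)
  rw [hNK'] at hcard
  obtain ⟨e⟩ := hG.equiv t ht
  have h120 := Subgroup.card_dvd_of_le hK
  rw [card_Ct e] at h120
  rw [← hcard] at h120 hKG
  have hn1 : n ∣ 2926 := Nat.dvd_of_mul_dvd_mul_right (by norm_num : 0 < 60) hKG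
  rcases count_cases n (Nat.lt_succ_of_le (Nat.le_of_dvd (by norm_num) hn1)) hn1 (by omega) hn with
    rfl | rfl
  · exfalso
    have hidx : K.index = 11 := by
      have := K.index_mul_card
      rw [← hcard, hG.card] at this
      omega
    let φ := MulAction.toPermHom G (G ⧸ K)
    have hker : φ.ker = ⊥ := by
      rcases Subgroup.Normal.eq_bot_or_eq_top (inferInstance : φ.ker.Normal) with hk | hk
      · exact hk
      · exfalso
        have hle : φ.ker ≤ K := by
          intro g hg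
          have := congrArg (fun p : Equiv.Perm (G ⧸ K) => p ((1 : G) : G ⧸ K)) (MonoidHom.mem_ker.1 hg)
          simp only [φ, MulAction.toPermHom_apply, MulAction.toPerm_apply, Equiv.Perm.one_apply,
            MulAction.Quotient.smul_coe, smul_eq_mul, mul_one] at this
          have := QuotientGroup.eq.1 this
          rwa [mul_one, inv_mem_iff] at this
        rw [hk, top_le_iff] at hle
        rw [hle, Subgroup.index_top] at hidx
        norm_num at hidx
    have hd := Subgroup.card_dvd_of_injective φ ((MonoidHom.ker_eq_bot_iff φ).1 hker)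
    rw [hG.card, Nat.card_perm, ← Subgroup.index_eq_card, hidx] at hd
    norm_num [Nat.factorial] at hd
  · exact Subgroup.eq_top_of_card_eq K (by rw [← hcard, hG.card])

end CfsgLib.JankoUnique
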