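import Cfsg.Agent.Lib.JankoUnique.GoodCert
import Mathlib.GroupTheory.GroupAction.Quotient
import Mathlib.GroupTheory.Subgroup.Simple
import Mathlib.Data.Fintype.EquivFin
import Mathlib.Tactic.IntervalCases

/-!
# The coset table of the first Janko group, applied to a group
-/

set_option autoImplicit false
set_option maxRecDepth 100000

namespace CfsgLib.JankoUnique

open CfsgLib.Presented

/-- The values of the letters. -/
def evOf {G : Type*} [Group G] (r : Fin 5 → G) (n : ℕ) : G := if h : n < 5 then r ⟨n, h⟩ else 1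

/-- The coset named by the table. -/
noncomputable def liveC (i : ℕ) : ℕ := JankoGood.live.get 22 i

/-- The table. -/
noncomputable def tbl (i g : ℕ) : ℕ := JankoGood.table.get 11 (5 * i + g)

/-- The fact justifying an edge. -/
noncomputable def edgeFact (i g : ℕ) : ℕ := JankoGood.edges.get 23 (5 * i + g)

/-- One edge is justified by a fact. -/
noncomputable def edgeOK (i g : ℕ) : Bool :=
  Nat.blt (edgeFact i g / 2) 3743 && Nat.beq (fx (JankoGood.facts.get 50 (edgeFact i g / 2))) g &&
    Nat.blt (tbl i g) 1463 && Nat.beq (tbl (tbl i g) g) i &&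
    cond (Nat.beq (edgeFact i g % 2) 0)
      (Nat.beq (fa (JankoGood.facts.get 50 (edgeFact i g / 2))) (liveC i) &&
        Nat.beq (fb (JankoGood.facts.get 50 (edgeFact i g / 2))) (liveC (tbl i g)))
      (Nat.beq (fb (JankoGood.facts.get 50 (edgeFact i g / 2))) (liveC i) &&
        Nat.beq (fa (JankoGood.facts.get 50 (edgeFact i g / 2))) (liveC (tbl i g)))

theorem edges_ok : ((List.range 1463).all fun i => (List.range 5).all fun g => edgeOK i g) = true := by
  decide +kernel

theorem live_zero : liveC 0 = 0 := by decide +kernel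

theorem edge_spec (i : Fin 1463) (g : Fin 5) : edgeOK i g = true := by
  have h := edges_ok
  simp only [List.all_eq_true, List.mem_range] at h
  exact h i i.2 g g.2

theorem tbl_lt (i : Fin 1463) (g : Fin 5) : tbl i g < 1463 := by
  have h := edge_spec i g
  simp only [edgeOK, Bool.and_eq_true, Nat.blt_eq] at h
  exact h.1.1.2

/-- The permutation of a letter. -/
noncomputable def tblPerm (g : Fin 5) : Equiv.Perm (Fin 1463) :=
  Function.Involutive.toPerm (fun i => ⟨tbl i g, tbl_lt i g⟩) fun i => by
    have h := edge_spec i g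
    simp only [edgeOK, Bool.and_eq_true] at h
    exact Fin.ext (Nat.eq_of_beq_eq_true h.1.2)

/-- The group of the table. -/
noncomputable def tblGroup : Subgroup (Equiv.Perm (Fin 1463)) := Subgroup.closure (Set.range tblPerm)

variable {G : Type*} [Group G] [Finite G] [IsSimpleGroup G]

/-- A group satisfying the relations is the group of the table. -/
theorem nonempty_equiv (r : Fin 5 → G) (hsq : ∀ k, r k * r k = 1)
    (hrel : ∀ w ∈ JankoGood.relWords, evW (evOf r) w = 1)
    (C : Subgroup G) (hC : ∀ k : Fin 5, k ≠ 0 → r k ∈ C)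
    (hcard : Nat.card G = 175560) (hCcard : Nat.card C = 120)
    (hgen : Subgroup.closure (Set.range r) = ⊤) : Nonempty (G ≃* tblGroup) := by
  let base : G ⧸ C := ((1 : G) : G ⧸ C)
  have heps : JankoGood.enum.A.eps = 5 := rfl
  have hI : JankoGood.enum.Interp (evOf r) base := by
    refine ⟨by rw [heps]; rfl, fun x hx => ?_, hrel, fun w hw => ?_⟩
    · rw [heps] at hx
      have hinv : JankoGood.enum.A.invl x = x := by
        interval_cases x <;> decide +kernel
      rw [hinv, evOf, dif_pos hx]
      exact hsq _
    · simp only [show JankoGood.enum.subs = JankoGood.subWords from rfl, JankoGood.subWords,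
        List.mem_cons, List.not_mem_nil, or_false] at hw
      rw [MulAction.Quotient.smul_coe, smul_eq_mul, mul_one, QuotientGroup.eq, mul_one, inv_mem_iff]
      rcases hw with rfl | rfl | rfl | rfl <;>
        simp only [evW_cons, evW_nil, mul_one, evOf, show (1 : ℕ) < 5 from by norm_num,
          show (2 : ℕ) < 5 from by norm_num, show (3 : ℕ) < 5 from by norm_num,
          show (4 : ℕ) < 5 from by norm_num, dif_pos] <;>
        exact hC _ (by simp [Fin.ext_iff])
  let h : Fin 1463 → G ⧸ C := fun i => JankoGood.enum.pt (evOf r) base (liveC i)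
  have hstep : ∀ (k : Fin 5) (i : Fin 1463), r k • h i = h (tblPerm k i) := by
    intro k i
    have hok := edge_spec i k
    simp only [edgeOK, Bool.and_eq_true, Nat.blt_eq] at hok
    obtain ⟨⟨⟨⟨hlt, hfx⟩, -⟩, -⟩, hdir⟩ := hok
    obtain ⟨-, hh⟩ := Enum.holds_of_ok JankoGood.enum_valid hI JankoGood.facts_ok _ hlt
    rw [show JankoGood.enum.facts = JankoGood.facts from rfl] at hh
    rw [Nat.eq_of_beq_eq_true hfx, evOf, dif_pos k.2] at hh
    show r k • JankoGood.enum.pt (evOf r) base (liveC i) =
      JankoGood.enum.pt (evOf r) base (liveC (tbl i k))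
    cases hc : Nat.beq (edgeFact i k % 2) 0
    · rw [hc, cond_false, Bool.and_eq_true] at hdir
      rw [Nat.eq_of_beq_eq_true hdir.1, Nat.eq_of_beq_eq_true hdir.2] at hh
      exact hh
    · rw [hc, cond_true, Bool.and_eq_true] at hdir
      rw [Nat.eq_of_beq_eq_true hdir.1, Nat.eq_of_beq_eq_true hdir.2] at hh
      rw [← hh, smul_smul, hsq, one_smul]
  have h0 : h 0 = base := by
    show JankoGood.enum.pt (evOf r) base (liveC 0) = base
    rw [live_zero, Enum.pt]
    simp
  have hcover : ∀ g : G, ∀ i, ∃ j, g • h i = h j := by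
    intro g
    induction (hgen ▸ Subgroup.mem_top g : g ∈ Subgroup.closure (Set.range r))
      using Subgroup.closure_induction'' with
    | mem y hy => obtain ⟨k, rfl⟩ := hy; exact fun i => ⟨_, hstep k i⟩
    | inv_mem y hy =>
      obtain ⟨k, rfl⟩ := hy
      rw [inv_eq_of_mul_eq_one_right (hsq k)]
      exact fun i => ⟨_, hstep k i⟩
    | one => exact fun i => ⟨i, one_smul _ _⟩
    | mul y z _ _ hy hz =>
      intro i
      obtain ⟨j, hj⟩ := hz i
      obtain ⟨l, hl⟩ := hy j
      exact ⟨l, by rw [mul_smul, hj, hl]⟩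
  have hs : Function.Surjective h := by
    intro q
    induction q using QuotientGroup.induction_on with
    | _ a =>
      obtain ⟨j, hj⟩ := hcover a 0
      rw [h0, MulAction.Quotient.smul_coe, smul_eq_mul, mul_one] at hj
      exact ⟨j, hj.symm⟩
  have hq : Nat.card (G ⧸ C) = 1463 := by
    have := C.index_mul_card
    rw [hcard, hCcard] at this
    rw [← Subgroup.index_eq_card]
    omega
  have hb : Function.Bijective h :=
    (Nat.bijective_iff_surjective_and_card h).2 ⟨hs, by rw [hq, Nat.card_fin]⟩
  let E : Fin 1463 ≃ G ⧸ C := Equiv.ofBijective h hb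
  let φ : G →* Equiv.Perm (Fin 1463) :=
    (E.symm.permCongrHom.toMonoidHom).comp (MulAction.toPermHom G (G ⧸ C))
  have hφ : ∀ k, φ (r k) = tblPerm k := by
    intro k
    refine Equiv.ext fun i => E.injective ?_
    show E (E.symm (r k • E i)) = E (tblPerm k i)
    rw [Equiv.apply_symm_apply]
    exact hstep k i
  have hne : φ (r 0) ≠ 1 := by
    rw [hφ]
    intro h1
    have := congrArg (fun p : Equiv.Perm (Fin 1463) => (p 0).val) h1
    simp only [Equiv.Perm.one_apply] at this
    have h2 : tbl 0 0 ≠ 0 := by decide +kernel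
    exact h2 this
  have hker : φ.ker = ⊥ := by
    rcases Subgroup.Normal.eq_bot_or_eq_top (inferInstance : φ.ker.Normal) with hk | hk
    · exact hk
    · exact absurd (MonoidHom.mem_ker.1 (hk ▸ Subgroup.mem_top (r 0))) hne
  have hrange : φ.range = tblGroup := by
    rw [MonoidHom.range_eq_map, ← hgen, MonoidHom.map_closure, tblGroup, ← Set.range_comp,
      show (φ ∘ r) = tblPerm from funext hφ]
  exact ⟨(MonoidHom.ofInjective ((MonoidHom.ker_eq_bot_iff φ).1 hker)).trans
    (MulEquiv.subgroupCongr hrange)⟩

end CfsgLib.JankoUnique
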