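import Cfsg.Agent.Lib.JankoUnique.Relations
import Cfsg.Agent.Lib.JankoUnique.Generate
import Cfsg.Agent.Lib.JankoUnique.Table

/-!
# Uniqueness
-/

set_option autoImplicit false
set_option linter.style.haveILetI false
set_option maxRecDepth 100000

namespace CfsgLib.JankoUnique

open CfsgLib.JankoCent CfsgLib.Presented

theorem cfg_prod : ∀ g alt : Bool,
    tmul (cfg g alt 1) (cfg g alt 2) = tmul (cfg false alt 1) (cfg false alt 2) := by
  decide +kernel

theorem frame_spec (g alt : Bool) :
    cfg g alt 0 ∈ gl ∧ cfg g alt 1 ∈ gl ∧ cfg g alt 2 ∈ gl ∧ cfg g alt 3 = tT ∧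
      isInv (cfg g alt 0) ∧ isInv (cfg g alt 1) ∧ isInv (cfg g alt 2) ∧ cfg g alt 0 ≠ tT ∧
      cfg g alt 2 ≠ tT ∧ tmul (cfg g alt 0) (cfg g alt 2) = tmul (cfg g alt 2) (cfg g alt 0) ∧
      cfg g alt 0 ≠ cfg g alt 2 ∧ cfg g alt 0 ≠ tmul tT (cfg g alt 2) ∧
      cfg g alt 1 ≠ cfg g alt 2 ∧ cfg g alt 0 ≠ cfg g alt 1 ∧
      tpow (tmul (cfg g alt 0) (cfg g alt 1)) 3 = t1 ∧
      tpow (tmul (cfg g alt 1) (cfg g alt 2)) 5 = t1 ∧
      (cfg g alt 0).1 = g ∧ (cfg g alt 1).1 = g ∧ (cfg g alt 2).1 = g ∧
      tpow (tmul (tmul (cfg g alt 0) (cfg g alt 1)) (cfg g alt 2)) 5 =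
        if g = true then tT else t1 := by
  have h := frame_ok g alt
  simpa only [frameOK, decide_eq_true_eq] using h

variable {G : Type*} [Group G] [Finite G] {t : G}

theorem exists_frame (hG : IsModelGroup G) (ht : IsInvol t) :
    ∃ (good : Bool) (r : Fin 4 → G), Frame t good r ∧
      ∀ K : Subgroup G, (∀ i, r i ∈ K) → t ∈ K → Ct t ≤ K := by
  obtain ⟨e⟩ := hG.equiv t ht
  obtain ⟨ha0, -, hc0, -, hai0, -, hci0, -, hct0, hac0, hacne0, -, -, -, -, -, ha0f, -, hc0f, -⟩ :=
    frame_spec false false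
  obtain ⟨c, hc⟩ := cc_surj e hc0
  obtain ⟨a0, ha⟩ := cc_surj e ha0
  have hci : IsInvol (c : G) := (isInv_iff e c).1 (hc ▸ hci0)
  have hai : IsInvol (a0 : G) := (isInv_iff e a0).1 (ha ▸ hai0)
  have hca : Commute (c : G) (a0 : G) := by
    rw [← hc, ← ha, ← cc_mul, ← cc_mul] at hac0
    exact (congrArg Subtype.val (cc_injective e hac0)).symm
  obtain ⟨alt, a, haa, hA⟩ : ∃ alt : Bool, ∃ a : Ct t, cc e a = cfg false alt 0 ∧
      ¬ Inn (c : G) (a : G) := by
    by_cases h : Inn (c : G) (a0 : G)
    · refine ⟨true, c * a0, ?_, ?_⟩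
      · rw [cc_mul, hc, ha]; exact (cfg_link false false).2.2.symm
      · rw [Subgroup.coe_mul, inn_mul hG hci (Commute.refl _) hca.symm]
        have := not_inn_self hG hci
        tauto
    · exact ⟨false, a0, ha, h⟩
  obtain ⟨ha', hb', hc', -, hai', hbi', -, -, -, hac', hacne', -, hbcne', -, -, hbc5', ha'f, -, hc'f, -⟩ :=
    frame_spec false alt
  obtain ⟨b, hb⟩ := cc_surj e hb'
  have hcalt : cc e c = cfg false alt 2 := by
    rw [hc]; simpa using (cfg_link false alt).1.symm
  have hai2 : IsInvol (a : G) := (isInv_iff e a).1 (haa ▸ hai')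
  have hbi : IsInvol (b : G) := (isInv_iff e b).1 (hb ▸ hbi')
  -- the element of order five
  have h5 : orderOf ((b : G) * (c : G)) = 5 := by
    haveI : Fact (Nat.Prime 5) := ⟨by norm_num⟩
    rw [← hb, ← hcalt, ← cc_mul, ← cc_pow, ← cc_one e] at hbc5'
    refine orderOf_eq_prime (congrArg Subtype.val (cc_injective e hbc5')) fun h => hbcne' ?_
    rw [← hb, ← hcalt]
    exact congrArg (cc e) (Subtype.ext ((eq_inv_of_mul_eq_one_left h).trans hci.inv_eq))
  have hxt : Commute ((b : G) * (c : G)) t :=
    (show Commute (b : G) t from mem_Ct.1 b.2).mul_left (mem_Ct.1 c.2)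
  have hix : (c : G) * ((b : G) * c) * (c : G)⁻¹ = ((b : G) * c)⁻¹ := by
    rw [mul_inv_rev, hci.inv_eq, hbi.inv_eq]
    simp [mul_assoc, hci.1]
  obtain ⟨r, hr, hxr, hne⟩ := exists_other hG h5 ht hxt
  obtain ⟨g, hg⟩ : ∃ g : Bool, Commute (cond g (t * (c : G)) (c : G)) r := by
    rcases inverter_fix hG h5 ht hr hci hxt hxr (mem_Ct.1 c.2) hix hne with h | h
    · exact ⟨false, h⟩
    · exact ⟨true, h⟩
  obtain ⟨h0, h1, h2, h3, i0, i1, i2, n0, n2, c02, e02, e02t, e12, e01, o01, -, f0, -, f2, o012⟩ :=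
    frame_spec g alt
  obtain ⟨r1, q1⟩ := cc_surj e h0
  obtain ⟨r2, q2⟩ := cc_surj e h1
  obtain ⟨r3, q3⟩ := cc_surj e h2
  have hz : ∀ w : Ct t, cc e (tC t * w) = tmul tT (cc e w) := fun w => by
    rw [cc_mul, cc_tC e ht.orderOf_eq]
  have e3 : (r3 : G) = cond g (t * (c : G)) (c : G) := by
    have h := (cfg_link g alt).1
    cases g
    · simp only [Bool.false_eq_true, if_false] at h
      exact congrArg Subtype.val (cc_injective e (q3.trans (h.trans hc.symm)))
    · rw [if_pos rfl] at h
      rw [← hc, ← hz] at h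
      exact congrArg Subtype.val (cc_injective e (q3.trans h))
  have e1 : (r1 : G) = cond g (t * (a : G)) (a : G) := by
    have h := (cfg_link g alt).2.1
    cases g
    · simp only [Bool.false_eq_true, if_false] at h
      exact congrArg Subtype.val (cc_injective e (q1.trans haa.symm))
    · rw [if_pos rfl] at h
      rw [← haa, ← hz] at h
      exact congrArg Subtype.val (cc_injective e (q1.trans h))
  have e23 : (r2 : G) * r3 = (b : G) * c := by
    have h := cfg_prod g alt
    rw [← q2, ← q3, ← hb, ← hcalt, ← cc_mul, ← cc_mul] at h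
    exact congrArg Subtype.val (cc_injective e h)
  have hne_of : ∀ {v w : Ct t}, cc e v ≠ cc e w → (v : G) ≠ w := fun {v w} h hh =>
    h (congrArg (cc e) (Subtype.ext hh))
  have hnt : ∀ {v : Ct t}, cc e v ≠ tT → (v : G) ≠ t := fun {v} h hh =>
    h ((eq_tC_iff e ht.orderOf_eq v).1 hh)
  have hT : ∀ v : Ct t, Inn t (v : G) ↔ (cc e v).1 = false := inn_iff e
  refine ⟨g, ![r, (r1 : G), (r2 : G), (r3 : G)], ?_, ?_⟩
  · exact
    { ht := ht
      inv := fun i => by
        fin_cases i
        · exact hr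
        · exact (isInv_iff e r1).1 (q1 ▸ i0)
        · exact (isInv_iff e r2).1 (q2 ▸ i1)
        · exact (isInv_iff e r3).1 (q3 ▸ i2)
      cent := fun i hi => by
        fin_cases i
        · exact absurd rfl hi
        · exact mem_Ct.1 r1.2
        · exact mem_Ct.1 r2.2
        · exact mem_Ct.1 r3.2
      five := show orderOf ((r2 : G) * r3) = 5 by rw [e23]; exact h5
      cX := show Commute ((r2 : G) * r3) r by rw [e23]; exact hxr
      c30 := show Commute (r3 : G) r by rw [e3]; exact hg
      c13 := by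
        show Commute (r1 : G) (r3 : G)
        rw [← q1, ← q3, ← cc_mul, ← cc_mul] at c02
        exact congrArg Subtype.val (cc_injective e c02)
      ne0 := hne
      ne1 := hnt (q1 ▸ n0)
      ne3 := hnt (q3 ▸ n2)
      ne13 := hne_of (by rw [q1, q3]; exact e02)
      ne13t := hne_of (w := tC t * r3) (by rw [hz, q1, q3]; exact e02t)
      ne12 := hne_of (by rw [q1, q2]; exact e01)
      h12 := by
        show ((r1 : G) * r2) ^ 3 = 1
        rw [← q1, ← q2, ← cc_mul, ← cc_pow, ← cc_one e] at o01
        exact congrArg Subtype.val (cc_injective e o01)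
      h123 := by
        show ((r1 : G) * r2 * r3) ^ 5 = _
        rw [← q1, ← q2, ← q3, ← cc_mul, ← cc_mul, ← cc_pow] at o012
        cases g
        · simp only [Bool.false_eq_true, if_false] at o012 ⊢
          exact congrArg Subtype.val (cc_injective e (o012.trans (cc_one e).symm))
        · simp only [if_true] at o012 ⊢
          exact (eq_tC_iff e ht.orderOf_eq _).2 o012
      s1 := show Inn t (r1 : G) ↔ g = false by rw [hT, q1, f0]
      s3 := show Inn t (r3 : G) ↔ g = false by rw [hT, q3, f2]
      s31 := by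
        show Inn (r3 : G) (r1 : G) ↔ g = true
        cases g
        · rw [e3, e1]; simpa using hA
        · have hri : IsInvol (r3 : G) := (isInv_iff e r3).1 (q3 ▸ i2)
          have c3t : Commute (r3 : G) t := mem_Ct.1 r3.2
          have cat : Commute (a : G) t := mem_Ct.1 a.2
          have cca : Commute (a : G) (c : G) := by
            rw [← haa, ← hcalt, ← cc_mul, ← cc_mul] at hac'
            exact congrArg Subtype.val (cc_injective e hac')
          have ca3 : Commute (a : G) (r3 : G) := by rw [e3]; exact cat.mul_right cca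
          have hat : (a : G) ≠ t := fun h => by
            have h' := (eq_tC_iff e ht.orderOf_eq a).1 h
            rw [haa] at h'
            rw [h'] at ha'f
            exact absurd ha'f (by decide)
          have hac : (a : G) ≠ c := hne_of (by rw [haa, hcalt]; exact hacne')
          have hna3 : (a : G) ≠ r3 := fun h => by
            have h' : cc e a = cc e r3 := congrArg (cc e) (Subtype.ext h)
            rw [haa, q3] at h'
            rw [h', f2] at ha'f
            exact absurd ha'f (by decide)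
          have x1 : Inn (r3 : G) t := by
            rw [inn_comm_iff hG hri ht c3t (hnt (q3 ▸ n2)), hT, q3, f2]
            simp
          have x2 : Inn t (a : G) := (hT a).2 (by rw [haa, ha'f])
          have x3 : Inn (r3 : G) (a : G) := by
            rw [inn_comm_iff hG hri hai2 ca3.symm hna3.symm]
            have y1 : ¬ Inn (a : G) t := (inn_comm_iff hG ht hai2 cat.symm hat.symm).1 x2
            have y2 : Inn (a : G) (c : G) :=
              (inn_comm_iff hG hai2 hci cca hac).2 hA
            have y3 := inn_mul hG hai2 cat.symm cca.symm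
            rw [e3]
            simp only [cond_true]
            tauto
          rw [e1]
          simp only [cond_true, iff_true]
          rw [inn_mul hG hri c3t.symm ca3]
          tauto }
  · intro K hK htK
    refine Ct_le_of_frame e g alt ![r1, r2, r3, tC t] (fun i => ?_) K fun i => ?_
    · fin_cases i
      · exact q1
      · exact q2
      · exact q3
      · exact (cc_tC e ht.orderOf_eq).trans h3.symm
    · fin_cases i
      · exact hK 1
      · exact hK 2
      · exact hK 3
      · exact htK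

/-- A group with the hypotheses is the group of the table. -/
theorem equiv_tblGroup [IsSimpleGroup G] (hG : IsModelGroup G) : Nonempty (G ≃* tblGroup) := by
  haveI : Fact (Nat.Prime 2) := ⟨Nat.prime_two⟩
  obtain ⟨t, ht⟩ := exists_prime_orderOf_dvd_card' (G := G) 2 (by rw [hG.card]; norm_num)
  obtain ⟨good, r, F, hspan⟩ := exists_frame hG (isInvol_of_orderOf ht)
  obtain rfl := F.good_eq hG
  obtain ⟨h01, h10t, h012, h02, h0t, h5⟩ := F.relations hG
  simp only [if_true] at h10t
  have h123 := F.h123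
  simp only [if_true] at h123
  let R : Fin 5 → G := ![r 0, r 1, r 2, r 3, t]
  have hsq : ∀ k, R k * R k = 1 := by
    intro k; fin_cases k <;> simp [R, (F.inv _).1, F.ht.1]
  have csq : ∀ a b : G, IsInvol a → IsInvol b → Commute a b → a * (b * (a * b)) = 1 := by
    intro a b ha hb h
    rw [show a * (b * (a * b)) = a * b * (a * b) by simp [mul_assoc], h.symm.mul_mul_mul_comm, ha.1,
      hb.1, one_mul]
  have h23 : (r 2 * r 3) ^ 5 = 1 := by rw [← h5, pow_orderOf_eq_one]
  have hrel : ∀ w ∈ JankoGood.relWords, evW (evOf R) w = 1 := by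
    intro w hw
    simp only [JankoGood.relWords, List.mem_cons, List.not_mem_nil, or_false] at hw
    rcases hw with rfl | rfl | rfl | rfl | rfl | rfl | rfl | rfl | rfl | rfl | rfl | rfl | rfl <;>
      simp only [evW_cons, evW_nil, mul_one, evOf, R, show (0 : ℕ) < 5 from by norm_num,
        show (1 : ℕ) < 5 from by norm_num, show (2 : ℕ) < 5 from by norm_num,
        show (3 : ℕ) < 5 from by norm_num, show (4 : ℕ) < 5 from by norm_num, dif_pos]
    · rw [sq] at h02; simpa [mul_assoc] using h02
    · exact csq _ _ (F.inv 0) (F.inv 3) F.c30.symm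
    · exact csq _ _ (F.inv 1) (F.inv 3) F.c13
    · simpa [pow_succ, mul_assoc] using F.h12
    · simpa [pow_succ, mul_assoc] using h23
    · exact csq _ _ F.ht (F.inv 1) (F.cent 1 (by decide)).symm
    · exact csq _ _ F.ht (F.inv 2) (F.cent 2 (by decide)).symm
    · exact csq _ _ F.ht (F.inv 3) (F.cent 3 (by decide)).symm
    · have h := congrArg (t * ·) h123
      simpa [pow_succ, mul_assoc, F.ht.1] using h
    · simpa [pow_succ, mul_assoc] using h0t
    · simpa [pow_succ, mul_assoc] using h01
    · simpa [pow_succ, mul_assoc] using h10t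
    · simpa [pow_succ, mul_assoc] using h012
  have hC : ∀ k : Fin 5, k ≠ 0 → R k ∈ Ct t := by
    intro k hk
    fin_cases k
    · exact absurd rfl hk
    · exact mem_Ct.2 (F.cent 1 (by decide)).eq
    · exact mem_Ct.2 (F.cent 2 (by decide)).eq
    · exact mem_Ct.2 (F.cent 3 (by decide)).eq
    · exact mem_Ct.2 rfl
  obtain ⟨e⟩ := hG.equiv t (isInvol_of_orderOf ht)
  refine nonempty_equiv R hsq hrel (Ct t) hC hG.card (card_Ct e) ?_
  have hK : ∀ k, R k ∈ Subgroup.closure (Set.range R) := fun k => Subgroup.subset_closure ⟨k, rfl⟩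
  have hr : ∀ i, r i ∈ Subgroup.closure (Set.range R) := by
    intro i; fin_cases i
    · exact hK 0
    · exact hK 1
    · exact hK 2
    · exact hK 3
  refine eq_top_of_frame hG F.ht F.five ((F.cent 2 (by decide)).mul_left (F.cent 3 (by decide)))
    (F.inv 0) F.cX F.ne0 (i := r 3) ?_ _ (hspan _ hr (hK 4)) (hr 0) (hr 3)
  rw [mul_inv_rev, (F.inv 3).inv_eq, (F.inv 2).inv_eq]
  simp [mul_assoc, (F.inv 3).1]

omit [Finite G] in
/-- The involution is `2`-central when the order is `8` modulo `16`. -/
theorem twoCentral_of_mod [Finite G] (ht : orderOf t = 2) (e : Ct t ≃* M)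
    (h16 : Nat.card G % 16 = 8) : ∃ P : Sylow 2 G, t ∈ P ∧ ∀ x ∈ P, x * t = t * x := by
  refine ⟨sylP e h16, ?_, fun x hx => mem_Ct.1 (sylT_le e ((mem_sylP e h16 x).1 hx))⟩
  rw [mem_sylP]
  exact (mem_sylT e (tC t)).2 (by rw [cc_tC e ht]; exact pS_tT)

/-- Two groups with the hypotheses are isomorphic. -/
theorem equiv_of_isModelGroup {H : Type*} [Group H] [Finite H] [IsSimpleGroup G] [IsSimpleGroup H]
    (hG : IsModelGroup G) (hH : IsModelGroup H) : Nonempty (G ≃* H) := by
  obtain ⟨a⟩ := equiv_tblGroup hG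
  obtain ⟨b⟩ := equiv_tblGroup hH
  exact ⟨a.trans b.symm⟩

end CfsgLib.JankoUnique
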