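import Cfsg.Agent.Lib.JankoUnique.BadCert
import Cfsg.Agent.Lib.JankoUnique.FacetCert
import Mathlib.GroupTheory.GroupAction.Quotient
import Mathlib.Tactic.IntervalCases

/-!
# The two small certificates
-/

set_option autoImplicit false
set_option maxRecDepth 100000

namespace CfsgLib.JankoUnique

open CfsgLib.Presented

variable {G : Type*} [Group G]

/-- The values of three letters. -/
def ev3 (a b c : G) (n : ℕ) : G := if n = 0 then a else if n = 1 then b else if n = 2 then c else 1

/-- The product of the five-fold word is a central involution or trivial. -/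
theorem facet {a b c : G} (ha : a * a = 1) (hb : b * b = 1) (hc : c * c = 1)
    (hac : (a * c) ^ 2 = 1) (hbc : (b * c) ^ 3 = 1) (hab : (a * b) ^ 5 = 1) :
    (a * b * c) ^ 5 * (a * b * c) ^ 5 = 1 ∧
      (a * b * c) ^ 5 * a * (a * b * c) ^ 5 * a = 1 ∧
      (a * b * c) ^ 5 * b * (a * b * c) ^ 5 * b = 1 ∧
      (a * b * c) ^ 5 * c * (a * b * c) ^ 5 * c = 1 := by
  have heps : JankoFacet.enum.A.eps = 3 := rfl
  have hI : JankoFacet.enum.Interp (ev3 a b c) (1 : G) := by
    refine ⟨by rw [heps]; rfl, fun x hx => ?_, fun w hw => ?_, fun w hw => ?_⟩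
    · rw [heps] at hx
      have hinv : JankoFacet.enum.A.invl x = x := by interval_cases x <;> decide +kernel
      rw [hinv]
      interval_cases x <;> simp [ev3, ha, hb, hc]
    · simp only [show JankoFacet.enum.rels = JankoFacet.relWords from rfl, JankoFacet.relWords,
        List.mem_cons, List.not_mem_nil, or_false] at hw
      rcases hw with rfl | rfl | rfl
      · rw [← hac]; simp [evW, ev3, pow_succ, mul_assoc]
      · rw [← hbc]; simp [evW, ev3, pow_succ, mul_assoc]
      · rw [← hab]; simp [evW, ev3, pow_succ, mul_assoc]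
    · simp [show JankoFacet.enum.subs = JankoFacet.subWords from rfl, JankoFacet.subWords] at hw
  have hA : JankoFacet.enum.A.Good (ev3 a b c) := Enum.good JankoFacet.enum_valid hI
  have key : ∀ (w red : List ℕ) {s s' : ℕ},
      JankoFacet.enum.chkPath 163 0 0 s red = some s' →
      pushAll JankoFacet.enum.A w [] = red → (∀ x ∈ w, x ≤ JankoFacet.enum.A.eps) →
      evW (ev3 a b c) w = 1 := by
    intro w red s s' h hred hw
    have h1 := Enum.loop JankoFacet.enum_valid hI JankoFacet.facts_ok h
    rw [smul_eq_mul, mul_one] at h1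
    have h2 := pushAll_ev hA [] hw
    rw [hred, h1, List.reverse_nil, evW_nil, one_mul] at h2
    exact h2.symm
  obtain ⟨s0, h0⟩ := JankoFacet.loop_cube
  obtain ⟨s1, h1⟩ := JankoFacet.loop_comm0
  obtain ⟨s2, h2⟩ := JankoFacet.loop_comm1
  obtain ⟨s3, h3⟩ := JankoFacet.loop_comm2
  have e5 : evW (ev3 a b c) (wpow [0, 1, 2] 5) = (a * b * c) ^ 5 := by
    rw [evW_wpow]; simp [evW, ev3, mul_assoc]
  have k0 := key (wpow [0, 1, 2] 5 ++ wpow [0, 1, 2] 5) _ h0 (by decide +kernel) (by decide +kernel)
  have k1 := key (wpow [0, 1, 2] 5 ++ [0] ++ wpow [0, 1, 2] 5 ++ [0]) _ h1 (by decide +kernel)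
    (by decide +kernel)
  have k2 := key (wpow [0, 1, 2] 5 ++ [1] ++ wpow [0, 1, 2] 5 ++ [1]) _ h2 (by decide +kernel)
    (by decide +kernel)
  have k3 := key (wpow [0, 1, 2] 5 ++ [2] ++ wpow [0, 1, 2] 5 ++ [2]) _ h3 (by decide +kernel)
    (by decide +kernel)
  simp only [evW_append, e5, evW_cons, evW_nil, mul_one] at k0 k1 k2 k3
  simp only [ev3, if_true, if_neg, OfNat.one_ne_ofNat, OfNat.ofNat_ne_one, one_ne_zero,
    OfNat.ofNat_ne_zero, if_false] at k1 k2 k3
  exact ⟨k0, k1, k2, k3⟩

/-- The values of five letters. -/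
def ev5 (r : Fin 5 → G) (n : ℕ) : G := if h : n < 5 then r ⟨n, h⟩ else 1

/-- The other configuration puts the first letter into the subgroup. -/
theorem bad_mem (r : Fin 5 → G) (hsq : ∀ k, r k * r k = 1)
    (hrel : ∀ w ∈ JankoBad.relWords, evW (ev5 r) w = 1) (C : Subgroup G)
    (hC : ∀ k : Fin 5, k ≠ 0 → r k ∈ C) : r 0 ∈ C := by
  have heps : JankoBad.enum.A.eps = 5 := rfl
  have hI : JankoBad.enum.Interp (ev5 r) ((1 : G) : G ⧸ C) := by
    refine ⟨by rw [heps]; rfl, fun x hx => ?_, hrel, fun w hw => ?_⟩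
    · rw [heps] at hx
      have hinv : JankoBad.enum.A.invl x = x := by interval_cases x <;> decide +kernel
      rw [hinv, ev5, dif_pos hx]
      exact hsq _
    · simp only [show JankoBad.enum.subs = JankoBad.subWords from rfl, JankoBad.subWords,
        List.mem_cons, List.not_mem_nil, or_false] at hw
      rw [MulAction.Quotient.smul_coe, smul_eq_mul, mul_one, QuotientGroup.eq, mul_one, inv_mem_iff]
      rcases hw with rfl | rfl | rfl | rfl <;>
        simp only [evW_cons, evW_nil, mul_one, ev5, show (1 : ℕ) < 5 from by norm_num,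
          show (2 : ℕ) < 5 from by norm_num, show (3 : ℕ) < 5 from by norm_num,
          show (4 : ℕ) < 5 from by norm_num, dif_pos] <;>
        exact hC _ (by simp [Fin.ext_iff])
  obtain ⟨s', h⟩ := JankoBad.loop0
  have h1 := Enum.loop JankoBad.enum_valid hI JankoBad.facts_ok h
  rw [List.reverse_singleton, evW_cons, evW_nil, mul_one, ev5, dif_pos (by norm_num : (0 : ℕ) < 5),
    MulAction.Quotient.smul_coe, smul_eq_mul, mul_one, QuotientGroup.eq, mul_one, inv_mem_iff] at h1
  exact h1

end CfsgLib.JankoUnique
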