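import Cfsg.Agent.Lib.JankoUnique.Signs

/-!
# The centralizer of an element of order five
-/

set_option autoImplicit false
set_option linter.style.haveILetI false
set_option maxRecDepth 100000

namespace CfsgLib.JankoUnique

open CfsgLib.JankoCent

theorem div_cases : ∀ a < 4390, a ∣ 4389 → (8778 / a) % 5 = 1 →
    a = 3 ∨ a = 33 ∨ a = 133 ∨ a = 1463 := by decide +kernel

theorem eleven_false : ∀ n < 533, n ∣ 532 → 4 ∣ n → n % 11 ≠ 1 := by decide +kernel

theorem nineteen_false : ∀ n < 1849, n ∣ 1848 → 4 ∣ n → n % 19 ≠ 1 := by decide +kernel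

theorem countP_eq_card {G : Type*} [Group G] {u : G} (e : Ct u ≃* M) (P : T → Prop)
    [DecidablePred P] :
    Nat.card {a : Ct u // P (cc e a)} = gl.countP fun y => decide (P y) := by
  rw [← card_toFinset_filter, ← Nat.card_eq_finsetCard]
  refine Nat.card_eq_of_bijective (fun a => ⟨cc e a.1, Finset.mem_filter.2
    ⟨List.mem_toFinset.2 (cc_mem e _), a.2⟩⟩) ⟨fun a b h => ?_, ?_⟩
  · exact Subtype.ext (cc_injective e (congrArg Subtype.val h))
  · rintro ⟨y, hy⟩
    obtain ⟨hy1, hy2⟩ := Finset.mem_filter.1 hy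
    obtain ⟨a, rfl⟩ := cc_surj e (List.mem_toFinset.1 hy1)
    exact ⟨⟨a, hy2⟩, rfl⟩

variable {G : Type*} [Group G] [Finite G] {u r x i : G}
variable (hG : IsModelGroup G)

include hG

omit [Finite G] in
theorem five_facts (hu : IsInvol u) (hx : Commute x u) (h5 : orderOf x = 5) :
    ∃ e : Ct u ≃* M, cc e (inC hx) ≠ t1 ∧ tpow (cc e (inC hx)) 5 = t1 := by
  obtain ⟨e⟩ := hG.equiv u hu
  refine ⟨e, fun h => ?_, ?_⟩
  · have h' := congrArg Subtype.val (cc_injective e (h.trans (cc_one e).symm))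
    change x = 1 at h'
    rw [h', orderOf_one] at h5
    omega
  · rw [← cc_pow, show inC hx ^ 5 = 1 from Subtype.ext (by
      show x ^ 5 = 1
      rw [← h5, pow_orderOf_eq_one]), cc_one]

omit [Finite G] in
/-- Commuting involutions centralizing an element of order five are equal. -/
theorem eq_of_commute (h5 : orderOf x = 5) (hu : IsInvol u) (hr : r * r = 1) (hr1 : r ≠ 1)
    (hxu : Commute x u) (hxr : Commute x r) (hru : Commute r u) : r = u := by
  obtain ⟨e, hne, hpow⟩ := five_facts hG hu hxu h5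
  have hc : tmul (cc e (inC hxu)) (cc e (inC hru)) = tmul (cc e (inC hru)) (cc e (inC hxu)) := by
    rw [← cc_mul, ← cc_mul, show inC hxu * inC hru = inC hru * inC hxu from Subtype.ext hxr.eq]
  rcases five_involution _ (cc_mem e _) hpow hne _ (cc_mem e _) hc
    (by rw [← cc_mul, show inC hru * inC hru = 1 from Subtype.ext hr, cc_one]) with h | h
  · exact absurd (congrArg Subtype.val (cc_injective e (h.trans (cc_one e).symm))) hr1
  · exact (eq_tC_iff e hu.orderOf_eq (inC hru)).2 h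

omit [Finite G] in
theorem exists_inverter (h5 : orderOf x = 5) (hu : IsInvol u) (hxu : Commute x u) :
    ∃ i, IsInvol i ∧ Commute i u ∧ i * x * i⁻¹ = x⁻¹ := by
  obtain ⟨e, hne, hpow⟩ := five_facts hG hu hxu h5
  obtain ⟨y, hy, hyi, -, hyx⟩ := five_inverter _ (cc_mem e _) hpow hne
  obtain ⟨b, rfl⟩ := cc_surj e hy
  have hb : IsInvol (b : G) := (isInv_iff e b).1 hyi
  refine ⟨b, hb, mem_Ct.1 b.2, ?_⟩
  rw [← cc_mul, ← cc_mul, ← cc_inv] at hyx
  rw [hb.inv_eq]
  exact congrArg Subtype.val (cc_injective e hyx)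

/-- A subgroup of order four contains commuting distinct involutions. -/
theorem exists_klein {H : Subgroup G} (h : 4 ∣ Nat.card H) :
    ∃ a b : G, a ∈ H ∧ b ∈ H ∧ IsInvol a ∧ IsInvol b ∧ Commute a b ∧ a ≠ b := by
  classical
  haveI : Fact (Nat.Prime 2) := ⟨Nat.prime_two⟩
  obtain ⟨V, hV⟩ := Sylow.exists_subgroup_card_pow_prime (G := H) 2 (n := 2) h
  haveI : Fintype V := Fintype.ofFinite V
  have hV' : Fintype.card V = 4 := by rw [← Nat.card_eq_fintype_card, hV]; norm_num
  have hsq : ∀ v : V, v * v = 1 := by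
    intro v
    refine Subtype.ext (Subtype.ext (hG.two ((v : H) : G) 2 ?_))
    have hpc : v ^ Nat.card V = 1 := pow_card_eq_one'
    rw [hV] at hpc
    exact congrArg (fun z : V => ((z : H) : G)) hpc
  have hinvol : ∀ v : V, v ≠ 1 → IsInvol ((v : H) : G) := fun v hv =>
    ⟨congrArg (fun z : V => ((z : H) : G)) (hsq v), fun hh => hv (Subtype.ext (Subtype.ext hh))⟩
  obtain ⟨a, ha, b, hb, hab⟩ := Finset.one_lt_card.1 (show 1 < (Finset.univ.erase (1 : V)).card by
    rw [Finset.card_erase_of_mem (Finset.mem_univ _), Finset.card_univ, hV']; norm_num)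
  rw [Finset.mem_erase] at ha hb
  refine ⟨((a : H) : G), ((b : H) : G), a.1.2, b.1.2, hinvol a ha.1, hinvol b hb.1, ?_,
    fun hh => hab (Subtype.ext (Subtype.ext hh))⟩
  have hcomm : a * b = b * a := by
    have h1 : a⁻¹ = a := inv_eq_of_mul_eq_one_right (hsq a)
    have h2 : b⁻¹ = b := inv_eq_of_mul_eq_one_right (hsq b)
    calc a * b = (a * b)⁻¹ := (inv_eq_of_mul_eq_one_right (hsq _)).symm
      _ = b * a := by rw [mul_inv_rev, h1, h2]
  exact congrArg (fun z : V => ((z : H) : G)) hcomm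

/-- An element whose order does not divide that of an involution centralizer. -/
theorem exists_sylow_count {y : G} {p : ℕ} (hp : p.Prime) (hy : orderOf y = p)
    (hp120 : ¬ p ∣ 120) (hv : ¬ p ^ 2 ∣ 175560) :
    ∃ n, n % p = 1 ∧ n * Nat.card (nrm y) = 175560 ∧ ¬ 4 ∣ Nat.card (nrm y) := by
  obtain ⟨n, hn, hcard⟩ := exists_count hp hy (hG.card ▸ hv)
  refine ⟨n, hn, hcard.trans hG.card, fun h4 => ?_⟩
  have hno : ∀ v, IsInvol v → v * y * v⁻¹ ≠ y := by
    intro v hv hc
    obtain ⟨e⟩ := hG.equiv v hv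
    refine hp120 ?_
    rw [← card_Ct e, ← hy]
    exact Subgroup.orderOf_dvd_natCard (Ct v) (mem_Ct.2 (mul_inv_eq_iff_eq_mul.1 hc).symm)
  obtain ⟨a, b, ha, hb, hai, hbi, hab, hne⟩ := exists_klein hG h4
  have ha' := (commute_or_invert hp hy hai.1 ha).resolve_left (hno a hai)
  have hb' := (commute_or_invert hp hy hbi.1 hb).resolve_left (hno b hbi)
  refine hno (a * b) ⟨?_, ?_⟩ ?_
  · rw [show a * b * (a * b) = a * (b * a) * b by simp [mul_assoc], ← hab.eq,
      show a * (a * b) * b = a * a * (b * b) by simp [mul_assoc], hai.1, hbi.1, one_mul]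
  · exact fun hh => hne ((eq_inv_of_mul_eq_one_left hh).trans hbi.inv_eq)
  · rw [show a * b * y * (a * b)⁻¹ = a * (b * y * b⁻¹) * a⁻¹ by group, hb', ← conj_inv, ha',
      inv_inv]

/-- The centralizer of an element of order five. -/
theorem cent_five (h5 : orderOf x = 5) (hu : IsInvol u) (hxu : Commute x u) :
    Nat.card (Ct x) = 30 ∧ Nat.card (nrm x) = 60 := by
  classical
  obtain ⟨e, hne, hpow⟩ := five_facts hG hu hxu h5
  have h10 : Nat.card (Ct x ⊓ Ct u : Subgroup G) = 10 := by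
    rw [← five_cent _ (cc_mem e _) hpow hne,
      ← countP_eq_card e (fun y => tmul (cc e (inC hxu)) y = tmul y (cc e (inC hxu)))]
    refine Nat.card_eq_of_bijective (fun a => ⟨⟨a.1, a.2.2⟩, ?_⟩) ⟨fun a b h => ?_, ?_⟩
    · rw [← cc_mul, ← cc_mul, show inC hxu * ⟨a.1, a.2.2⟩ = ⟨a.1, a.2.2⟩ * inC hxu from
        Subtype.ext (mem_Ct.1 a.2.1).symm]
    · exact Subtype.ext (congrArg (fun z => (z.1 : G)) h)
    · rintro ⟨⟨a, ha⟩, h⟩
      rw [← cc_mul, ← cc_mul] at h
      exact ⟨⟨a, mem_Ct.2 (congrArg Subtype.val (cc_injective e h)).symm, ha⟩, rfl⟩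
  have hdvd : 10 ∣ Nat.card (Ct x) := h10 ▸ Subgroup.card_dvd_of_le inf_le_left
  have h4 : ¬ 4 ∣ Nat.card (Ct x) := by
    intro h
    obtain ⟨a, b, ha, hb, hai, hbi, hab, hne'⟩ := exists_klein hG h
    exact hne' (eq_of_commute hG h5 hbi hai.1 hai.2 (mem_Ct.1 hb).symm (mem_Ct.1 ha).symm hab)
  obtain ⟨i, hi, hiu, hix⟩ := exists_inverter hG h5 hu hxu
  have hmul : ∀ c : G, c * x = x * c → ∀ d : G, d * c * x * (d * c)⁻¹ = d * x * d⁻¹ := by
    intro c hc d
    rw [show d * c * x * (d * c)⁻¹ = d * (c * x) * c⁻¹ * d⁻¹ by group, hc]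
    group
  have hN : Nat.card (nrm x) = 2 * Nat.card (Ct x) := by
    rw [show 2 * Nat.card (Ct x) = Nat.card (Bool × Ct x) by
      rw [Nat.card_prod]; simp]
    refine (Nat.card_eq_of_bijective
      (fun c : Bool × Ct x => (⟨cond c.1 i 1 * c.2, ?_⟩ : nrm x)) ⟨?_, ?_⟩).symm
    · rw [mem_nrm, hmul _ (mem_Ct.1 c.2.2)]
      cases c.1
      · simp
      · rw [cond_true, hix]; exact inv_mem (Subgroup.mem_zpowers x)
    · rintro ⟨bc, c⟩ ⟨bd, d⟩ h
      have h' : cond bc i 1 * (c : G) = cond bd i 1 * (d : G) := congrArg Subtype.val h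
      have hx2 : x⁻¹ ≠ x := by
        intro hh
        have : x ^ 2 = 1 := by rw [sq]; nth_rewrite 1 [← hh]; rw [inv_mul_cancel]
        have := orderOf_dvd_of_pow_eq_one this
        rw [h5] at this
        norm_num at this
      have hc := hmul _ (mem_Ct.1 c.2) (cond bc i 1)
      have hd := hmul _ (mem_Ct.1 d.2) (cond bd i 1)
      rw [h'] at hc
      have h2 := hc.symm.trans hd
      cases bc <;> cases bd
      · exact Prod.ext rfl (Subtype.ext (mul_left_cancel h'))
      · simp [hix] at h2; exact absurd h2.symm hx2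
      · simp [hix] at h2; exact absurd h2 hx2
      · exact Prod.ext rfl (Subtype.ext (mul_left_cancel h'))
    · rintro ⟨g, hg⟩
      obtain ⟨k, hk⟩ := Subgroup.mem_zpowers_iff.1 (mem_nrm.1 hg)
      have key : g * x * g⁻¹ = x ∨ g * x * g⁻¹ = x⁻¹ := by
        haveI : Fact (Nat.Prime 2) := ⟨Nat.prime_two⟩
        -- the odd part of the order does not matter
        obtain ⟨a, m, hm, hgm⟩ := Nat.exists_eq_two_pow_mul_odd (orderOf_pos g).ne'
        have h2 : (g ^ m) * (g ^ m) = 1 := hG.two _ a (by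
          rw [← pow_mul, mul_comm, ← hgm, pow_orderOf_eq_one])
        have hiter : ∀ j : ℕ, g ^ j * x * (g ^ j)⁻¹ = x ^ (k ^ j) := by
          intro j
          induction j with
          | zero => simp
          | succ j ih =>
            rw [pow_succ', show g * g ^ j * x * (g * g ^ j)⁻¹ = g * (g ^ j * x * (g ^ j)⁻¹) * g⁻¹ by
              group, ih, ← conj_zpow, ← hk, ← zpow_mul, pow_succ']
        have h1 : x ^ (k ^ (m + m) - 1) = 1 := by
          have := hiter (m + m)
          rw [pow_add g, h2, one_mul, inv_one, mul_one] at this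
          rw [zpow_sub_one, ← this, mul_inv_cancel]
        have h3 : ((k : ZMod 5)) ^ (m + m) = 1 := by
          have := orderOf_dvd_iff_zpow_eq_one.2 h1
          rw [h5, ← ZMod.intCast_zmod_eq_zero_iff_dvd] at this
          push_cast at this
          exact sub_eq_zero.1 this
        have h4 : ∀ z : ZMod 5, ∀ j < 4, j % 2 = 1 → z ^ (j + j) = 1 → z = 1 ∨ z = -1 := by
          decide
        obtain ⟨l, rfl⟩ := hm
        have hz : ∀ z : ZMod 5, z ^ (2 * l + 1 + (2 * l + 1)) = 1 →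
            z ^ (1 + 1) = 1 := by
          intro z hz
          rcases eq_or_ne z 0 with rfl | hz0
          · rw [zero_pow (by omega)] at hz
            exact absurd hz (by decide)
          · have hf : z ^ 4 = 1 := (by decide : ∀ w : ZMod 5, w ≠ 0 → w ^ 4 = 1) z hz0
            rwa [show 2 * l + 1 + (2 * l + 1) = 4 * l + (1 + 1) by ring, pow_add, pow_mul, hf,
              one_pow, one_mul] at hz
        rw [← hk]
        rcases h4 _ 1 (by norm_num) (by norm_num) (hz _ h3) with h | h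
        · left
          have : (5 : ℤ) ∣ k - 1 := by
            rw [show (5 : ℤ) = ((5 : ℕ) : ℤ) by norm_num, ← ZMod.intCast_zmod_eq_zero_iff_dvd]
            push_cast; rw [h]; ring
          rw [show (5 : ℤ) = ((orderOf x : ℕ) : ℤ) by rw [h5]; norm_num,
            orderOf_dvd_iff_zpow_eq_one, zpow_sub_one, mul_inv_eq_one] at this
          exact this
        · right
          have : (5 : ℤ) ∣ k + 1 := by
            rw [show (5 : ℤ) = ((5 : ℕ) : ℤ) by norm_num, ← ZMod.intCast_zmod_eq_zero_iff_dvd]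
            push_cast; rw [h]; ring
          rw [show (5 : ℤ) = ((orderOf x : ℕ) : ℤ) by rw [h5]; norm_num,
            orderOf_dvd_iff_zpow_eq_one, zpow_add_one] at this
          exact eq_inv_of_mul_eq_one_left this
      rcases key with h | h
      · exact ⟨(false, ⟨g, mem_Ct.2 (mul_inv_eq_iff_eq_mul.1 h)⟩), Subtype.ext (one_mul g)⟩
      · refine ⟨(true, ⟨i * g, mem_Ct.2 (mul_inv_eq_iff_eq_mul.1 ?_)⟩), Subtype.ext ?_⟩
        · rw [show i * g * x * (i * g)⁻¹ = i * (g * x * g⁻¹) * i⁻¹ by group, h, ← conj_inv, hix,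
            inv_inv]
        · show i * (i * g) = g
          rw [← mul_assoc, hi.1, one_mul]
  obtain ⟨n, hn, hncard⟩ := exists_count (by norm_num : Nat.Prime 5) h5 (by rw [hG.card]; norm_num)
  rw [hG.card, hN] at hncard
  obtain ⟨a, ha⟩ := hdvd
  rw [ha] at hncard h4 hN
  have hodd : a % 2 = 1 := by
    by_contra hh
    exact h4 (by omega)
  have hna : n * a = 8778 := by linarith
  have ha4389 : a ∣ 4389 := by
    have h1 : a ∣ 2 * 4389 := ⟨n, by rw [mul_comm a n, hna]⟩
    exact (Nat.Coprime.dvd_mul_left (Nat.coprime_two_right.2 (Nat.odd_iff.2 hodd))).1 h1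
  have hapos : 0 < a := Nat.pos_of_ne_zero (by rintro rfl; simp at hodd)
  have hdiv : 8778 / a = n := by rw [← hna, Nat.mul_div_cancel _ hapos]
  have hlt : a < 4390 := Nat.lt_succ_of_le (Nat.le_of_dvd (by norm_num) ha4389)
  have hCd : ∀ {p : ℕ}, p.Prime → p ∣ a → ∃ y, y ∈ Ct x ∧ orderOf y = p := by
    intro p hp hpa
    haveI := Fact.mk hp
    obtain ⟨y, hy⟩ := exists_prime_orderOf_dvd_card' (G := Ct x) p (ha ▸ hpa.mul_left 10)
    exact ⟨y, y.2, by rw [Subgroup.orderOf_coe, hy]⟩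
  rcases div_cases a hlt ha4389 (hdiv ▸ hn) with rfl | rfl | rfl | rfl
  · exact ⟨ha, hN⟩
  · exfalso
    obtain ⟨y, hyC, hy⟩ := hCd (by norm_num : Nat.Prime 11) (by norm_num)
    obtain ⟨m, hm, hmcard, hm4⟩ := exists_sylow_count hG (by norm_num) hy (by norm_num) (by norm_num)
    have hy' : orderOf (⟨y, hyC⟩ : Ct x) = 11 := by rw [← Subgroup.orderOf_coe]; exact hy
    obtain ⟨k, hk, hkc⟩ := exists_count (A := Ct x) (by norm_num) hy' (by rw [ha]; norm_num)
    have hk1 : k = 1 := by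
      have h30 : k ∣ 30 := by
        have : k ∣ 30 * 11 := ⟨_, by rw [hkc, ha]⟩
        refine (Nat.Coprime.dvd_mul_right ?_).1 this
        rw [Nat.coprime_comm, Nat.Prime.coprime_iff_not_dvd (by norm_num)]
        omega
      have hdec : ∀ j < 31, j ∣ 30 → j % 11 = 1 → j = 1 ∨ j = 12 := by decide
      rcases hdec k (Nat.lt_succ_of_le (Nat.le_of_dvd (by norm_num) h30)) h30 hk with h | h
      · exact h
      · subst h; norm_num at h30
    rw [hk1, one_mul] at hkc
    have hle : Ct x ≤ nrm y := fun g hg => by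
      have hmem : (⟨g, hg⟩ : Ct x) ∈ nrm (⟨y, hyC⟩ : Ct x) := by
        rw [Subgroup.eq_top_of_card_eq _ hkc]; exact Subgroup.mem_top _
      rw [mem_nrm] at hmem ⊢
      obtain ⟨j, hj⟩ := Subgroup.mem_zpowers_iff.1 hmem
      exact Subgroup.mem_zpowers_iff.2 ⟨j, by simpa using congrArg Subtype.val hj⟩
    have hd := Subgroup.card_dvd_of_le hle
    rw [ha] at hd
    obtain ⟨q, hq⟩ := hd
    rw [hq] at hmcard hm4
    have hm532 : m * q = 532 := by linarith
    have h4m : 4 ∣ m := by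
      have h2 : Nat.Coprime 4 q := by
        rw [show (4 : ℕ) = 2 ^ 2 by norm_num, Nat.coprime_pow_left_iff (by norm_num),
          Nat.Prime.coprime_iff_not_dvd Nat.prime_two]
        intro h; exact hm4 (by omega)
      exact h2.dvd_of_dvd_mul_right (by rw [hm532]; norm_num)
    exact eleven_false m (Nat.lt_succ_of_le (Nat.le_of_dvd (by norm_num) ⟨q, hm532.symm⟩))
      ⟨q, hm532.symm⟩ h4m hm
  all_goals
    exfalso
    obtain ⟨y, hyC, hy⟩ := hCd (by norm_num : Nat.Prime 19) (by norm_num)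
    obtain ⟨m, hm, hmcard, hm4⟩ := exists_sylow_count hG (by norm_num) hy (by norm_num) (by norm_num)
    have hxy : x ∈ nrm y := centralizer_le_nrm (mem_Ct.2 (mem_Ct.1 hyC).symm)
    have h5d : 5 ∣ Nat.card (nrm y) := h5 ▸ Subgroup.orderOf_dvd_natCard _ hxy
    have h19d : 19 ∣ Nat.card (nrm y) :=
      hy ▸ Subgroup.orderOf_dvd_natCard _ (centralizer_le_nrm (mem_Ct.2 rfl))
    obtain ⟨q, hq⟩ := Nat.Coprime.mul_dvd_of_dvd_of_dvd (by norm_num) h5d h19d
    rw [hq] at hmcard hm4
    have hm1848 : m * q = 1848 := by linarith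
    have h4m : 4 ∣ m := by
      have h8 : 8 ∣ m * q := by rw [hm1848]; norm_num
      by_cases h2 : 2 ∣ q
      · obtain ⟨q', rfl⟩ := h2
        have hq' : ¬ 2 ∣ q' := fun h => hm4 (by omega)
        have : 4 ∣ m * q' := by
          have : m * q' = 924 := by linarith
          rw [this]; norm_num
        exact ((Nat.coprime_pow_left_iff (by norm_num : 0 < 2) 2 q').2
          ((Nat.Prime.coprime_iff_not_dvd Nat.prime_two).2 hq')).dvd_of_dvd_mul_right this
      · exact ((Nat.coprime_pow_left_iff (by norm_num : 0 < 2) 2 q).2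
          ((Nat.Prime.coprime_iff_not_dvd Nat.prime_two).2 h2)).dvd_of_dvd_mul_right
            ((show 4 ∣ 8 by norm_num).trans h8)
    exact nineteen_false m (Nat.lt_succ_of_le (Nat.le_of_dvd (by norm_num) ⟨q, hm1848.symm⟩))
      ⟨q, hm1848.symm⟩ h4m hm

end CfsgLib.JankoUnique
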