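import Cfsg.Agent.Lib.JankoCent.Functions

/-! Generated generating frames of the centralizer model. -/
set_option autoImplicit false
set_option maxRecDepth 100000
set_option maxHeartbeats 4000000

namespace CfsgLib.JankoUnique

open CfsgLib.JankoCent

/-- Three reflections and the centre: good or not, and the two choices of the first one. -/
def cfg : Bool → Bool → Fin 4 → T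
  | false, false => ![(false, 2, 3, 0, 1, 4), (false, 0, 3, 4, 1, 2), (false, 1, 0, 3, 2, 4), (true, 0, 1, 2, 3, 4)]
  | false, true => ![(false, 3, 2, 1, 0, 4), (false, 0, 2, 1, 4, 3), (false, 1, 0, 3, 2, 4), (true, 0, 1, 2, 3, 4)]
  | true, false => ![(true, 2, 3, 0, 1, 4), (true, 0, 3, 4, 1, 2), (true, 1, 0, 3, 2, 4), (true, 0, 1, 2, 3, 4)]
  | true, true => ![(true, 3, 2, 1, 0, 4), (true, 0, 2, 1, 4, 3), (true, 1, 0, 3, 2, 4), (true, 0, 1, 2, 3, 4)]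

/-- Words for all elements, in the order of `gl`. -/
def cfgWords : Bool → Bool → List (List (Fin 4))
  | false, false => [[], [2, 1, 0, 2, 1], [1, 0, 2, 1, 2], [0, 1, 2, 1, 0], [1, 0, 2, 1, 2, 1], [1, 2, 1, 0, 2],
    [1, 2, 1, 0, 2, 1], [0, 2, 1, 2], [1], [0, 2, 1, 2, 1], [2, 1, 0, 2], [0, 1, 0, 2, 1, 0],
    [1, 0, 2, 1], [2], [2, 1, 0, 2, 1, 2], [1, 2, 1, 0, 2, 1, 0], [0, 1, 2], [2, 1],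
    [0, 2, 1, 2, 1, 0], [2, 1, 0, 2, 1, 2, 1], [1, 2, 1, 2, 1, 0], [0, 1, 2, 1], [0, 2, 1, 0, 2, 1, 0], [1, 0, 2],
    [0, 1, 0, 2, 1, 2, 1], [1, 2, 1, 0], [0, 1, 2, 1, 0, 2], [2, 1, 2], [0, 1, 2, 1, 0, 2, 1], [0, 1],
    [0], [0, 2, 1, 0, 2, 1], [0, 1, 0, 2, 1, 2], [0, 2, 1, 0, 2], [1, 0, 2, 1, 0], [2, 1, 2, 1],
    [1, 2], [1, 2, 1, 0, 2, 1, 2], [0, 2, 1], [1, 0, 2, 1, 2, 1, 0], [2, 1, 2, 1, 0], [0, 1, 2, 1, 2, 1, 0],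
    [0, 1, 0, 2, 1], [0, 2], [0, 2, 1, 0, 2, 1, 2], [2, 1, 0, 2, 1, 0], [0, 1, 0, 2], [1, 2, 1],
    [2, 1, 0], [0, 1, 0, 2, 1, 0, 2], [0, 1, 2, 1, 2, 1], [1, 0], [0, 1, 2, 1, 2], [1, 0, 2, 1, 0, 2, 1],
    [1, 0, 2, 1, 0, 2], [1, 2, 1, 2, 1], [0, 2, 1, 0], [1, 2, 1, 2], [2, 1, 0, 2, 1, 0, 2], [0, 1, 0],
    [3], [2, 1, 0, 2, 1, 3], [1, 0, 2, 1, 2, 3], [0, 1, 2, 1, 0, 3], [1, 0, 2, 1, 2, 1, 3], [1, 2, 1, 0, 2, 3],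
    [1, 2, 1, 0, 2, 1, 3], [0, 2, 1, 2, 3], [1, 3], [0, 2, 1, 2, 1, 3], [2, 1, 0, 2, 3], [0, 1, 0, 2, 1, 0, 3],
    [1, 0, 2, 1, 3], [2, 3], [2, 1, 0, 2, 1, 2, 3], [1, 2, 1, 0, 2, 1, 0, 3], [0, 1, 2, 3], [2, 1, 3],
    [0, 2, 1, 2, 1, 0, 3], [2, 1, 0, 2, 1, 2, 1, 3], [1, 2, 1, 2, 1, 0, 3], [0, 1, 2, 1, 3], [0, 2, 1, 0, 2, 1, 0, 3], [1, 0, 2, 3],
    [0, 1, 0, 2, 1, 2, 1, 3], [1, 2, 1, 0, 3], [0, 1, 2, 1, 0, 2, 3], [2, 1, 2, 3], [0, 1, 2, 1, 0, 2, 1, 3], [0, 1, 3],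
    [0, 3], [0, 2, 1, 0, 2, 1, 3], [0, 1, 0, 2, 1, 2, 3], [0, 2, 1, 0, 2, 3], [1, 0, 2, 1, 0, 3], [2, 1, 2, 1, 3],
    [1, 2, 3], [1, 2, 1, 0, 2, 1, 2, 3], [0, 2, 1, 3], [1, 0, 2, 1, 2, 1, 0, 3], [2, 1, 2, 1, 0, 3], [0, 1, 2, 1, 2, 1, 0, 3],
    [0, 1, 0, 2, 1, 3], [0, 2, 3], [0, 2, 1, 0, 2, 1, 2, 3], [2, 1, 0, 2, 1, 0, 3], [0, 1, 0, 2, 3], [1, 2, 1, 3],
    [2, 1, 0, 3], [0, 1, 0, 2, 1, 0, 2, 3], [0, 1, 2, 1, 2, 1, 3], [1, 0, 3], [0, 1, 2, 1, 2, 3], [1, 0, 2, 1, 0, 2, 1, 3],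
    [1, 0, 2, 1, 0, 2, 3], [1, 2, 1, 2, 1, 3], [0, 2, 1, 0, 3], [1, 2, 1, 2, 3], [2, 1, 0, 2, 1, 0, 2, 3], [0, 1, 0, 3]]
  | false, true => [[], [1, 0, 2, 1, 2], [2, 1, 0, 2, 1], [1], [1, 2, 1, 0, 2, 1], [0, 2, 1, 2],
    [1, 0, 2, 1, 2, 1], [1, 2, 1, 0, 2], [0, 1, 2, 1, 0], [2, 1, 0, 2], [0, 2, 1, 2, 1], [0, 1, 0, 2, 1, 0],
    [2, 1, 0, 2, 1, 2], [2], [1, 0, 2, 1], [2, 1, 0, 2, 1, 2, 1], [1, 2, 1, 2, 1, 0], [0, 2, 1, 2, 1, 0],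
    [2, 1], [1, 2, 1, 0, 2, 1, 0], [0, 1, 2], [1, 0, 2], [0, 2, 1, 0, 2, 1, 0], [0, 1, 2, 1],
    [1, 2, 1, 0, 2, 1, 2], [0, 2, 1], [1, 2], [0, 1, 2, 1, 2, 1, 0], [1, 0, 2, 1, 2, 1, 0], [2, 1, 2, 1, 0],
    [0, 2], [0, 2, 1, 0, 2, 1, 2], [0, 1, 0, 2, 1], [1, 2, 1], [2, 1, 0, 2, 1, 0], [0, 1, 0, 2],
    [0, 1, 2, 1, 0, 2], [0, 1, 0, 2, 1, 2, 1], [1, 2, 1, 0], [0, 1, 2, 1, 0, 2, 1], [0, 1], [2, 1, 2],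
    [0, 1, 0, 2, 1, 2], [0], [0, 2, 1, 0, 2, 1], [1, 0, 2, 1, 0], [2, 1, 2, 1], [0, 2, 1, 0, 2],
    [0, 1, 2, 1, 2, 1], [0, 1, 0, 2, 1, 0, 2], [2, 1, 0], [0, 1, 2, 1, 2], [1, 0], [1, 0, 2, 1, 0, 2, 1],
    [2, 1, 0, 2, 1, 0, 2], [0, 1, 0], [1, 2, 1, 2], [0, 2, 1, 0], [1, 0, 2, 1, 0, 2], [1, 2, 1, 2, 1],
    [3], [1, 0, 2, 1, 2, 3], [2, 1, 0, 2, 1, 3], [1, 3], [1, 2, 1, 0, 2, 1, 3], [0, 2, 1, 2, 3],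
    [1, 0, 2, 1, 2, 1, 3], [1, 2, 1, 0, 2, 3], [0, 1, 2, 1, 0, 3], [2, 1, 0, 2, 3], [0, 2, 1, 2, 1, 3], [0, 1, 0, 2, 1, 0, 3],
    [2, 1, 0, 2, 1, 2, 3], [2, 3], [1, 0, 2, 1, 3], [2, 1, 0, 2, 1, 2, 1, 3], [1, 2, 1, 2, 1, 0, 3], [0, 2, 1, 2, 1, 0, 3],
    [2, 1, 3], [1, 2, 1, 0, 2, 1, 0, 3], [0, 1, 2, 3], [1, 0, 2, 3], [0, 2, 1, 0, 2, 1, 0, 3], [0, 1, 2, 1, 3],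
    [1, 2, 1, 0, 2, 1, 2, 3], [0, 2, 1, 3], [1, 2, 3], [0, 1, 2, 1, 2, 1, 0, 3], [1, 0, 2, 1, 2, 1, 0, 3], [2, 1, 2, 1, 0, 3],
    [0, 2, 3], [0, 2, 1, 0, 2, 1, 2, 3], [0, 1, 0, 2, 1, 3], [1, 2, 1, 3], [2, 1, 0, 2, 1, 0, 3], [0, 1, 0, 2, 3],
    [0, 1, 2, 1, 0, 2, 3], [0, 1, 0, 2, 1, 2, 1, 3], [1, 2, 1, 0, 3], [0, 1, 2, 1, 0, 2, 1, 3], [0, 1, 3], [2, 1, 2, 3],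
    [0, 1, 0, 2, 1, 2, 3], [0, 3], [0, 2, 1, 0, 2, 1, 3], [1, 0, 2, 1, 0, 3], [2, 1, 2, 1, 3], [0, 2, 1, 0, 2, 3],
    [0, 1, 2, 1, 2, 1, 3], [0, 1, 0, 2, 1, 0, 2, 3], [2, 1, 0, 3], [0, 1, 2, 1, 2, 3], [1, 0, 3], [1, 0, 2, 1, 0, 2, 1, 3],
    [2, 1, 0, 2, 1, 0, 2, 3], [0, 1, 0, 3], [1, 2, 1, 2, 3], [0, 2, 1, 0, 3], [1, 0, 2, 1, 0, 2, 3], [1, 2, 1, 2, 1, 3]]
  | true, false => [[], [2, 1, 0, 2, 1, 3], [1, 0, 2, 1, 2, 3], [0, 1, 2, 1, 0, 3], [1, 0, 2, 1, 2, 1], [1, 2, 1, 0, 2, 3],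
    [1, 2, 1, 0, 2, 1], [0, 2, 1, 2], [1, 3], [0, 2, 1, 2, 1, 3], [2, 1, 0, 2], [0, 1, 0, 2, 1, 0],
    [1, 0, 2, 1], [2, 3], [2, 1, 0, 2, 1, 2], [0, 1, 2, 1, 0, 2, 1, 2], [0, 1, 2, 3], [2, 1],
    [0, 2, 1, 2, 1, 0], [0, 1, 0, 2, 1, 2, 1, 0], [1, 2, 1, 2, 1, 0], [0, 1, 2, 1], [0, 2, 1, 0, 2, 1, 0, 3], [1, 0, 2, 3],
    [0, 1, 0, 2, 1, 2, 1, 3], [1, 2, 1, 0], [0, 1, 2, 1, 0, 2], [2, 1, 2, 3], [0, 1, 2, 1, 0, 2, 1, 3], [0, 1],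
    [0, 3], [0, 2, 1, 0, 2, 1], [0, 1, 0, 2, 1, 2], [0, 2, 1, 0, 2, 3], [1, 0, 2, 1, 0, 3], [2, 1, 2, 1],
    [1, 2], [0, 1, 2, 1, 0, 2, 1, 0], [0, 2, 1, 3], [0, 2, 1, 0, 2, 1, 2, 1], [2, 1, 2, 1, 0, 3], [0, 1, 2, 1, 2, 1, 0, 3],
    [0, 1, 0, 2, 1, 3], [0, 2], [0, 2, 1, 0, 2, 1, 2, 3], [2, 1, 0, 2, 1, 0], [0, 1, 0, 2], [1, 2, 1, 3],
    [2, 1, 0, 3], [0, 1, 0, 2, 1, 0, 2, 3], [0, 1, 2, 1, 2, 1], [1, 0], [0, 1, 2, 1, 2, 3], [0, 2, 1, 0, 2, 1, 0, 2],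
    [1, 0, 2, 1, 0, 2], [1, 2, 1, 2, 1, 3], [0, 2, 1, 0], [1, 2, 1, 2], [0, 1, 0, 2, 1, 0, 2, 1], [0, 1, 0, 3],
    [3], [2, 1, 0, 2, 1], [1, 0, 2, 1, 2], [0, 1, 2, 1, 0], [1, 0, 2, 1, 2, 1, 3], [1, 2, 1, 0, 2],
    [1, 2, 1, 0, 2, 1, 3], [0, 2, 1, 2, 3], [1], [0, 2, 1, 2, 1], [2, 1, 0, 2, 3], [0, 1, 0, 2, 1, 0, 3],
    [1, 0, 2, 1, 3], [2], [2, 1, 0, 2, 1, 2, 3], [1, 2, 1, 0, 2, 1, 0], [0, 1, 2], [2, 1, 3],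
    [0, 2, 1, 2, 1, 0, 3], [2, 1, 0, 2, 1, 2, 1], [1, 2, 1, 2, 1, 0, 3], [0, 1, 2, 1, 3], [0, 2, 1, 0, 2, 1, 0], [1, 0, 2],
    [0, 1, 0, 2, 1, 2, 1], [1, 2, 1, 0, 3], [0, 1, 2, 1, 0, 2, 3], [2, 1, 2], [0, 1, 2, 1, 0, 2, 1], [0, 1, 3],
    [0], [0, 2, 1, 0, 2, 1, 3], [0, 1, 0, 2, 1, 2, 3], [0, 2, 1, 0, 2], [1, 0, 2, 1, 0], [2, 1, 2, 1, 3],
    [1, 2, 3], [1, 2, 1, 0, 2, 1, 2], [0, 2, 1], [1, 0, 2, 1, 2, 1, 0], [2, 1, 2, 1, 0], [0, 1, 2, 1, 2, 1, 0],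
    [0, 1, 0, 2, 1], [0, 2, 3], [0, 2, 1, 0, 2, 1, 2], [2, 1, 0, 2, 1, 0, 3], [0, 1, 0, 2, 3], [1, 2, 1],
    [2, 1, 0], [0, 1, 0, 2, 1, 0, 2], [0, 1, 2, 1, 2, 1, 3], [1, 0, 3], [0, 1, 2, 1, 2], [1, 0, 2, 1, 0, 2, 1],
    [1, 0, 2, 1, 0, 2, 3], [1, 2, 1, 2, 1], [0, 2, 1, 0, 3], [1, 2, 1, 2, 3], [2, 1, 0, 2, 1, 0, 2], [0, 1, 0]]
  | true, true => [[], [1, 0, 2, 1, 2, 3], [2, 1, 0, 2, 1, 3], [1, 3], [1, 2, 1, 0, 2, 1], [0, 2, 1, 2],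
    [1, 0, 2, 1, 2, 1], [1, 2, 1, 0, 2, 3], [0, 1, 2, 1, 0, 3], [2, 1, 0, 2], [0, 2, 1, 2, 1, 3], [0, 1, 0, 2, 1, 0],
    [2, 1, 0, 2, 1, 2], [2, 3], [1, 0, 2, 1], [0, 1, 0, 2, 1, 2, 1, 0], [1, 2, 1, 2, 1, 0], [0, 2, 1, 2, 1, 0],
    [2, 1], [0, 1, 2, 1, 0, 2, 1, 2], [0, 1, 2, 3], [1, 0, 2, 3], [0, 2, 1, 0, 2, 1, 0, 3], [0, 1, 2, 1],
    [0, 1, 2, 1, 0, 2, 1, 0], [0, 2, 1, 3], [1, 2], [0, 1, 2, 1, 2, 1, 0, 3], [0, 2, 1, 0, 2, 1, 2, 1], [2, 1, 2, 1, 0, 3],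
    [0, 2], [0, 2, 1, 0, 2, 1, 2, 3], [0, 1, 0, 2, 1, 3], [1, 2, 1, 3], [2, 1, 0, 2, 1, 0], [0, 1, 0, 2],
    [0, 1, 2, 1, 0, 2], [0, 1, 0, 2, 1, 2, 1, 3], [1, 2, 1, 0], [0, 1, 2, 1, 0, 2, 1, 3], [0, 1], [2, 1, 2, 3],
    [0, 1, 0, 2, 1, 2], [0, 3], [0, 2, 1, 0, 2, 1], [1, 0, 2, 1, 0, 3], [2, 1, 2, 1], [0, 2, 1, 0, 2, 3],
    [0, 1, 2, 1, 2, 1], [0, 1, 0, 2, 1, 0, 2, 3], [2, 1, 0, 3], [0, 1, 2, 1, 2, 3], [1, 0], [0, 2, 1, 0, 2, 1, 0, 2],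
    [0, 1, 0, 2, 1, 0, 2, 1], [0, 1, 0, 3], [1, 2, 1, 2], [0, 2, 1, 0], [1, 0, 2, 1, 0, 2], [1, 2, 1, 2, 1, 3],
    [3], [1, 0, 2, 1, 2], [2, 1, 0, 2, 1], [1], [1, 2, 1, 0, 2, 1, 3], [0, 2, 1, 2, 3],
    [1, 0, 2, 1, 2, 1, 3], [1, 2, 1, 0, 2], [0, 1, 2, 1, 0], [2, 1, 0, 2, 3], [0, 2, 1, 2, 1], [0, 1, 0, 2, 1, 0, 3],
    [2, 1, 0, 2, 1, 2, 3], [2], [1, 0, 2, 1, 3], [2, 1, 0, 2, 1, 2, 1], [1, 2, 1, 2, 1, 0, 3], [0, 2, 1, 2, 1, 0, 3],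
    [2, 1, 3], [1, 2, 1, 0, 2, 1, 0], [0, 1, 2], [1, 0, 2], [0, 2, 1, 0, 2, 1, 0], [0, 1, 2, 1, 3],
    [1, 2, 1, 0, 2, 1, 2], [0, 2, 1], [1, 2, 3], [0, 1, 2, 1, 2, 1, 0], [1, 0, 2, 1, 2, 1, 0], [2, 1, 2, 1, 0],
    [0, 2, 3], [0, 2, 1, 0, 2, 1, 2], [0, 1, 0, 2, 1], [1, 2, 1], [2, 1, 0, 2, 1, 0, 3], [0, 1, 0, 2, 3],
    [0, 1, 2, 1, 0, 2, 3], [0, 1, 0, 2, 1, 2, 1], [1, 2, 1, 0, 3], [0, 1, 2, 1, 0, 2, 1], [0, 1, 3], [2, 1, 2],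
    [0, 1, 0, 2, 1, 2, 3], [0], [0, 2, 1, 0, 2, 1, 3], [1, 0, 2, 1, 0], [2, 1, 2, 1, 3], [0, 2, 1, 0, 2],
    [0, 1, 2, 1, 2, 1, 3], [0, 1, 0, 2, 1, 0, 2], [2, 1, 0], [0, 1, 2, 1, 2], [1, 0, 3], [1, 0, 2, 1, 0, 2, 1],
    [2, 1, 0, 2, 1, 0, 2], [0, 1, 0], [1, 2, 1, 2, 3], [0, 2, 1, 0, 3], [1, 0, 2, 1, 0, 2, 3], [1, 2, 1, 2, 1]]

/-- The value of a word. -/
def evalT (g alt : Bool) (w : List (Fin 4)) : T := w.foldl (fun acc i => tmul acc (cfg g alt i)) t1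

theorem cfg_words : ∀ g alt : Bool, (cfgWords g alt).map (evalT g alt) = gl := by
  intro g alt
  cases g <;> cases alt <;> decide +kernel

end CfsgLib.JankoUnique
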