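import Cfsg.Agent.Lib.JankoUnique.Frames

/-!
# Finite facts on the centralizer model
-/

set_option autoImplicit false
set_option maxRecDepth 100000
set_option maxHeartbeats 4000000
set_option synthInstance.maxSize 4096
set_option synthInstance.maxHeartbeats 400000

namespace CfsgLib.JankoUnique

open CfsgLib.JankoCent

-- Prefer the enumeration of the list to that of the whole type of tuples.
attribute [local instance 5000] List.decidableBAll List.decidableBEx

/-- The commutator in coordinates. -/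
def tcomm (y z : T) : T := tmul (tmul (tmul y z) (tinv y)) (tinv z)

theorem tcomm_fst (y z : T) : (tcomm y z).1 = false := by
  rcases y with ⟨b, y⟩
  rcases z with ⟨b', z⟩
  cases b <;> cases b' <;> rfl

theorem comm_exists : ∀ x ∈ gl, x.1 = false → ∃ y ∈ gl, ∃ z ∈ gl, tcomm y z = x := by decide +kernel

theorem odd_fst : ∀ x ∈ gl, tpow x 3 = t1 → x.1 = false := by decide +kernel

theorem five_fst : ∀ x ∈ gl, tpow x 5 = t1 → x.1 = false := by decide +kernel

theorem five_cent : ∀ x ∈ gl, tpow x 5 = t1 → x ≠ t1 →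
    gl.countP (fun y => decide (tmul x y = tmul y x)) = 10 := by decide +kernel

theorem five_inverter : ∀ x ∈ gl, tpow x 5 = t1 → x ≠ t1 →
    ∃ i ∈ gl, isInv i ∧ i ≠ tT ∧ tmul (tmul i x) i = tinv x := by decide +kernel

theorem five_no_three : ∀ x ∈ gl, tpow x 5 = t1 → x ≠ t1 →
    ∀ y ∈ gl, tmul x y = tmul y x → tpow y 3 = t1 → y = t1 := by decide +kernel

theorem five_involution : ∀ x ∈ gl, tpow x 5 = t1 → x ≠ t1 →
    ∀ y ∈ gl, tmul x y = tmul y x → tmul y y = t1 → y = t1 ∨ y = tT := by decide +kernel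

/-- Two involutions in the same half of the centralizer are in one class. -/
theorem cls_of_fst : ∀ x ∈ gl, isInv x → x ≠ tT → cls x = if x.1 = true then 6 else 1 := by
  decide +kernel

theorem fst_mul (x y : T) : (tmul x y).1 = xor x.1 y.1 := rfl

/-- The relations of three involutions in a centralizer. -/
theorem core : ∀ X ∈ gl, isInv X → ∀ Z ∈ gl, isInv Z → Z ≠ tT → X ≠ Z →
    tpow (tmul X Z) 3 = t1 → ∀ Y ∈ gl, isInv Y → Y ≠ tT → tmul Z Y = tmul Y Z → Y ≠ Z →
    Y ≠ tmul tT Z →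
    tpow (tmul X Y) 5 = (if xor X.1 Y.1 = true then tT else t1) ∧
      tpow (tmul (tmul Y X) Z) 5 = (if xor (xor X.1 Y.1) Z.1 = true then tT else t1) := by
  decide +kernel

/-- The properties of a frame. -/
def frameOK (g alt : Bool) : Bool :=
  let r1 := cfg g alt 0
  let r2 := cfg g alt 1
  let r3 := cfg g alt 2
  let t := cfg g alt 3
  decide (r1 ∈ gl ∧ r2 ∈ gl ∧ r3 ∈ gl ∧ t = tT ∧ isInv r1 ∧ isInv r2 ∧ isInv r3 ∧ r1 ≠ tT ∧ r3 ≠ tT ∧
    tmul r1 r3 = tmul r3 r1 ∧ r1 ≠ r3 ∧ r1 ≠ tmul tT r3 ∧ r2 ≠ r3 ∧ r1 ≠ r2 ∧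
    tpow (tmul r1 r2) 3 = t1 ∧ tpow (tmul r2 r3) 5 = t1 ∧ r1.1 = g ∧ r2.1 = g ∧ r3.1 = g ∧
    tpow (tmul (tmul r1 r2) r3) 5 = if g = true then tT else t1)

theorem frame_ok : ∀ g alt, frameOK g alt = true := by decide +kernel

theorem cfg_link : ∀ g alt, cfg g alt 2 = (if g = true then tmul tT (cfg false false 2) else cfg false false 2) ∧
    cfg g alt 0 = (if g = true then tmul tT (cfg false alt 0) else cfg false alt 0) ∧
    cfg false true 0 = tmul (cfg false false 2) (cfg false false 0) := by decide +kernel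

end CfsgLib.JankoUnique
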