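import Cfsg.Agent.Lib.JankoUnique.Thirty
import Cfsg.Agent.Lib.JankoUnique.Collapse

/-!
# The relations of a frame
-/

set_option autoImplicit false
set_option linter.style.haveILetI false
set_option maxRecDepth 100000

namespace CfsgLib.JankoUnique

open CfsgLib.JankoCent CfsgLib.Presented

variable {G : Type*} [Group G] [Finite G]

omit [Finite G] in
/-- The relations of three involutions inside one centralizer. -/
theorem core_apply {u X Y Z : G} (hG : IsModelGroup G) (hu : IsInvol u) (hX : IsInvol X)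
    (hY : IsInvol Y) (hZ : IsInvol Z) (cX : Commute X u) (cY : Commute Y u) (cZ : Commute Z u)
    (hZu : Z ≠ u) (hXZ : X ≠ Z) (h3 : (X * Z) ^ 3 = 1) (hYu : Y ≠ u) (cZY : Commute Z Y)
    (hYZ : Y ≠ Z) (hYZ' : Y ≠ u * Z) (sX sY sZ : Bool) (iX : Inn u X ↔ sX = false)
    (iY : Inn u Y ↔ sY = false) (iZ : Inn u Z ↔ sZ = false) :
    (X * Y) ^ 5 = (if xor sX sY = true then u else 1) ∧
      (Y * X * Z) ^ 5 = (if xor (xor sX sY) sZ = true then u else 1) := by
  obtain ⟨e⟩ := hG.equiv u hu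
  have hb : ∀ p q : Bool, (p = false ↔ q = false) → p = q := by decide
  have eX : (cc e (inC cX)).1 = sX := hb _ _ ((inn_iff e (inC cX)).symm.trans iX)
  have eY : (cc e (inC cY)).1 = sY := hb _ _ ((inn_iff e (inC cY)).symm.trans iY)
  have eZ : (cc e (inC cZ)).1 = sZ := hb _ _ ((inn_iff e (inC cZ)).symm.trans iZ)
  have hmain := core _ (cc_mem e (inC cX)) (isInv_inC e cX hX) _ (cc_mem e (inC cZ))
    (isInv_inC e cZ hZ) (cc_inC_ne_tT e hu cZ hZu) (cc_inC_ne e cX cZ hXZ)
    (by rw [← cc_mul, ← cc_pow, show (inC cX * inC cZ) ^ 3 = 1 from Subtype.ext h3, cc_one])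
    _ (cc_mem e (inC cY)) (isInv_inC e cY hY) (cc_inC_ne_tT e hu cY hYu)
    (by rw [← cc_mul, ← cc_mul, show inC cZ * inC cY = inC cY * inC cZ from Subtype.ext cZY.eq])
    (cc_inC_ne e cY cZ hYZ)
    (by
      rw [← cc_tC e hu.orderOf_eq, ← cc_mul]
      exact fun h => hYZ' (congrArg Subtype.val (cc_injective e h)))
  rw [eX, eY, eZ, ← cc_mul, ← cc_pow, ← cc_mul, ← cc_mul, ← cc_pow] at hmain
  have hite : ∀ (b : Bool) (w : Ct u), cc e w = (if b = true then tT else t1) →
      (w : G) = if b = true then u else 1 := by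
    intro b w hw
    cases b
    · simp only [Bool.false_eq_true, if_false] at hw ⊢
      exact congrArg Subtype.val (cc_injective e (hw.trans (cc_one e).symm))
    · simp only [if_true] at hw ⊢
      exact (eq_tC_iff e hu.orderOf_eq w).2 hw
  exact ⟨hite _ _ hmain.1, hite _ _ hmain.2⟩

/-- A frame with its further involution. -/
structure Frame (t : G) (good : Bool) (r : Fin 4 → G) : Prop where
  ht : IsInvol t
  inv : ∀ i, IsInvol (r i)
  cent : ∀ i : Fin 4, i ≠ 0 → Commute (r i) t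
  five : orderOf (r 2 * r 3) = 5
  cX : Commute (r 2 * r 3) (r 0)
  c30 : Commute (r 3) (r 0)
  c13 : Commute (r 1) (r 3)
  ne0 : r 0 ≠ t
  ne1 : r 1 ≠ t
  ne3 : r 3 ≠ t
  ne13 : r 1 ≠ r 3
  ne13t : r 1 ≠ t * r 3
  ne12 : r 1 ≠ r 2
  h12 : (r 1 * r 2) ^ 3 = 1
  h123 : (r 1 * r 2 * r 3) ^ 5 = if good = true then t else 1
  s1 : Inn t (r 1) ↔ good = false
  s3 : Inn t (r 3) ↔ good = false
  s31 : Inn (r 3) (r 1) ↔ good = true

variable {t : G} {good : Bool} {r : Fin 4 → G}

theorem Frame.relations (hG : IsModelGroup G) (F : Frame t good r) :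
    (r 0 * r 1) ^ 5 = 1 ∧ (r 1 * r 0 * t) ^ 5 = (if good = true then 1 else r 3) ∧
      (r 0 * r 1 * r 2) ^ 5 = 1 ∧ (r 0 * r 2) ^ 2 = 1 ∧ (r 0 * t) ^ 3 = 1 ∧
      orderOf (r 2 * r 3) = 5 := by
  have hxt : Commute (r 2 * r 3) t := (F.cent 2 (by decide)).mul_left (F.cent 3 (by decide))
  have hc3t := F.cent 3 (by decide)
  have hc1t := F.cent 1 (by decide)
  have h2 : r 2 = r 2 * r 3 * r 3 := by rw [mul_assoc, (F.inv 3).1, mul_one]
  have c02 : Commute (r 0) (r 2) := by rw [h2]; exact F.cX.symm.mul_right F.c30.symm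
  have h02 : (r 0 * r 2) ^ 2 = 1 := by
    rw [sq, c02.symm.mul_mul_mul_comm, (F.inv 0).1, (F.inv 2).1, one_mul]
  have hx1 : r 2 * r 3 ≠ 1 := fun h => by
    have := F.five
    rw [h, orderOf_one] at this
    norm_num at this
  have hn23 : ¬ Commute (r 2) (r 3) := fun h => by
    have hsq : (r 2 * r 3) ^ 2 = 1 := by rw [sq, h.symm.mul_mul_mul_comm, (F.inv 2).1, (F.inv 3).1, one_mul]
    have := orderOf_dvd_of_pow_eq_one hsq
    rw [F.five] at this
    norm_num at this
  have hn12 : ¬ Commute (r 1) (r 2) := fun h => by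
    have hsq : (r 1 * r 2) ^ 2 = 1 := by rw [sq, h.symm.mul_mul_mul_comm, (F.inv 1).1, (F.inv 2).1, one_mul]
    have h1 : r 1 * r 2 = 1 := by rw [← pow_one (r 1 * r 2)]; exact (pow_gcd_eq_one (a := r 1 * r 2) (m := 2) (n := 3)).2 ⟨hsq, F.h12⟩
    exact F.ne12 ((eq_inv_of_mul_eq_one_left h1).trans (F.inv 2).inv_eq)
  have hne03 : r 0 ≠ r 3 := fun h => hn23 (by rw [← h]; exact c02.symm)
  have hne01 : r 0 ≠ r 1 := fun h => hn12 (by rw [← h]; exact c02)
  have h0t : (r 0 * t) ^ 3 = 1 := cube_eq_one hG F.five F.ht (F.inv 0) hxt F.cX F.ne0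
  have hbool : ∀ (p : Prop) (b : Bool), (p ↔ b = false) → (¬ p ↔ b = true) := by
    intro p b h; rw [h]; cases b <;> simp
  have h3t : Inn (r 3) t ↔ good = true :=
    (inn_comm_iff hG (F.inv 3) F.ht hc3t F.ne3).trans (hbool _ _ F.s3)
  have h1t : Inn (r 1) t ↔ good = true :=
    (inn_comm_iff hG (F.inv 1) F.ht hc1t F.ne1).trans (hbool _ _ F.s1)
  have h13 : Inn (r 1) (r 3) ↔ good = false := by
    rw [inn_comm_iff hG (F.inv 1) (F.inv 3) F.c13 F.ne13, F.s31]
    simp
  have h30 : Inn (r 3) (r 0) ↔ good = true := by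
    have h := inn_mul hG (F.inv 3) ((F.c30.symm.mul_left hc3t.symm) : Commute (r 0 * t) (r 3)) hc3t.symm
    rw [mul_assoc, F.ht.1, mul_one] at h
    rw [h, h3t, iff_true_left (inn_of_cube hG (F.inv 3) (F.c30.symm.mul_left hc3t.symm) h0t)]
  have flip : ∀ b : Bool, (b = true ↔ (!b) = false) := by decide
  obtain ⟨h5, h5'⟩ := core_apply hG (F.inv 3) (F.inv 0) (F.inv 1) F.ht F.c30.symm F.c13 hc3t.symm
    F.ne3.symm F.ne0 h0t F.ne13 hc1t.symm F.ne1
    (fun h => F.ne13t (by rw [h, hc3t.eq]))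
    (!good) (!good) (!good) (h30.trans (flip good)) (F.s31.trans (flip good)) (h3t.trans (flip good))
  have h01 : (r 0 * r 1) ^ 5 = 1 := by rw [h5]; cases good <;> simp
  have h10t : (r 1 * r 0 * t) ^ 5 = (if good = true then 1 else r 3) := by
    rw [h5']; cases good <;> simp
  refine ⟨h01, h10t, ?_, h02, h0t, F.five⟩
  obtain ⟨hss, hs0, hs1, hs2⟩ := facet (F.inv 0).1 (F.inv 1).1 (F.inv 2).1 h02 F.h12 h01
  generalize (r 0 * r 1 * r 2) ^ 5 = s at hss hs0 hs1 hs2
  by_contra hs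
  have hsi : IsInvol s := ⟨hss, hs⟩
  have comm_of : ∀ a : G, IsInvol a → s * a * s * a = 1 → Commute s a := fun a ha h => by
    have h1 := eq_inv_of_mul_eq_one_left h
    rw [ha.inv_eq] at h1
    calc s * a = s * a * (s * s) := by rw [hss, mul_one]
      _ = a * s := by rw [← mul_assoc, h1]
  have cs0 := comm_of _ (F.inv 0) hs0
  have cs1 := comm_of _ (F.inv 1) hs1
  have cs2 := comm_of _ (F.inv 2) hs2
  have hne3 : r 3 ≠ s := fun h => hn23 (by rw [h]; exact cs2.symm)
  haveI : Fact (Nat.Prime 5) := ⟨by norm_num⟩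
  have ho : orderOf (r 0 * r 1) = 5 := orderOf_eq_prime h01
    fun h => hne01 ((eq_inv_of_mul_eq_one_left h).trans (F.inv 1).inv_eq)
  have hs3 : (s * r 3) ^ 3 = 1 := by
    have h := cube_eq_one hG ho hsi (F.inv 3) (cs0.symm.mul_left cs1.symm)
      (F.c30.symm.mul_left F.c13) hne3
    rw [← inv_inj, ← inv_pow, mul_inv_rev, hsi.inv_eq, (F.inv 3).inv_eq, inv_one]
    exact h
  have hs1' : Inn (r 1) s ↔ good = false := by
    have hc : Commute (s * r 3) (r 1) := cs1.mul_left F.c13.symm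
    have h := inn_mul hG (F.inv 1) hc F.c13.symm
    rw [mul_assoc, (F.inv 3).1, mul_one] at h
    rw [h, h13, iff_true_left (inn_of_cube hG (F.inv 1) hc hs3)]
  obtain ⟨h, -⟩ := core_apply hG (F.inv 1) hsi F.ht (F.inv 3) cs1 hc1t.symm F.c13.symm
    F.ne13.symm hne3.symm hs3 F.ne1.symm hc3t F.ne3.symm
    (fun h => F.ne13t (by rw [h, mul_assoc, (F.inv 3).1, mul_one]))
    good (!good) good hs1' (h1t.trans (flip good)) h13
  rw [show xor good (!good) = true by cases good <;> rfl, if_pos rfl] at h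
  refine hn12 ?_
  rw [← h]
  exact (cs2.mul_left (F.cent 2 (by decide)).symm).pow_left 5

theorem Frame.good_eq (hG : IsModelGroup G) (F : Frame t good r) : good = true := by
  obtain ⟨h01, h10t, h012, h02, h0t, -⟩ := F.relations hG
  by_contra hg
  simp only [Bool.not_eq_true] at hg
  subst hg
  simp only [Bool.false_eq_true, if_false] at h10t
  have h123 := F.h123
  simp only [Bool.false_eq_true, if_false] at h123
  let R : Fin 5 → G := ![r 0, r 1, r 2, r 3, t]
  have hsq : ∀ k, R k * R k = 1 := by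
    intro k; fin_cases k <;> simp [R, (F.inv _).1, F.ht.1]
  have csq : ∀ a b : G, IsInvol a → IsInvol b → Commute a b → a * (b * (a * b)) = 1 := by
    intro a b ha hb h
    rw [show a * (b * (a * b)) = a * b * (a * b) by simp [mul_assoc], h.symm.mul_mul_mul_comm, ha.1, hb.1,
      one_mul]
  have h23 : (r 2 * r 3) ^ 5 = 1 := by rw [← F.five, pow_orderOf_eq_one]
  have hrel : ∀ w ∈ JankoBad.relWords, evW (ev5 R) w = 1 := by
    intro w hw
    simp only [JankoBad.relWords, List.mem_cons, List.not_mem_nil, or_false] at hw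
    rcases hw with rfl | rfl | rfl | rfl | rfl | rfl | rfl | rfl | rfl | rfl | rfl | rfl | rfl <;>
      simp only [evW_cons, evW_nil, mul_one, ev5, R, show (0 : ℕ) < 5 from by norm_num,
        show (1 : ℕ) < 5 from by norm_num, show (2 : ℕ) < 5 from by norm_num,
        show (3 : ℕ) < 5 from by norm_num, show (4 : ℕ) < 5 from by norm_num, dif_pos]
    · rw [sq] at h02; simpa [mul_assoc] using h02
    · exact csq _ _ (F.inv 0) (F.inv 3) F.c30.symm
    · exact csq _ _ (F.inv 1) (F.inv 3) F.c13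
    · simpa [pow_succ, mul_assoc] using F.h12
    · simpa [pow_succ, mul_assoc] using h23
    · exact csq _ _ F.ht (F.inv 1) (F.cent 1 (by decide)).symm
    · exact csq _ _ F.ht (F.inv 2) (F.cent 2 (by decide)).symm
    · exact csq _ _ F.ht (F.inv 3) (F.cent 3 (by decide)).symm
    · simpa [pow_succ, mul_assoc] using h123
    · simpa [pow_succ, mul_assoc] using h0t
    · simpa [pow_succ, mul_assoc] using h01
    · have h := congrArg (· * r 3) h10t
      simpa [pow_succ, mul_assoc, (F.inv 3).1] using h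
    · simpa [pow_succ, mul_assoc] using h012
  have hC : ∀ k : Fin 5, k ≠ 0 → R k ∈ Ct t := by
    intro k hk
    fin_cases k
    · exact absurd rfl hk
    · exact mem_Ct.2 (F.cent 1 (by decide)).eq
    · exact mem_Ct.2 (F.cent 2 (by decide)).eq
    · exact mem_Ct.2 (F.cent 3 (by decide)).eq
    · exact mem_Ct.2 rfl
  have hmem := bad_mem R hsq hrel (Ct t) hC
  exact F.ne0 (eq_of_commute hG F.five F.ht (F.inv 0).1 (F.inv 0).2
    ((F.cent 2 (by decide)).mul_left (F.cent 3 (by decide))) F.cX (mem_Ct.1 hmem))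

end CfsgLib.JankoUnique
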