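import Mathlib.GroupTheory.Sylow
import Mathlib.GroupTheory.OrderOfElement
import Mathlib.RingTheory.Int.Basic
import Mathlib.Tactic.Group

/-!
# A cyclic Sylow subgroup of prime order and its normalizer
-/

set_option autoImplicit false

namespace CfsgLib.JankoUnique

variable {A : Type*} [Group A] [Finite A] {y g : A} {p : ℕ}

/-- The normalizer of a cyclic subgroup. -/
abbrev nrm (y : A) : Subgroup A := Subgroup.normalizer (Subgroup.zpowers y : Set A)

omit [Finite A] in
theorem conj_mem_zpowers (h : g * y * g⁻¹ ∈ Subgroup.zpowers y) {z : A}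
    (hz : z ∈ Subgroup.zpowers y) : g * z * g⁻¹ ∈ Subgroup.zpowers y := by
  obtain ⟨k, rfl⟩ := Subgroup.mem_zpowers_iff.1 hz
  rw [← conj_zpow]
  exact zpow_mem h k

theorem mem_nrm : g ∈ nrm y ↔ g * y * g⁻¹ ∈ Subgroup.zpowers y := by
  refine ⟨fun h => (Subgroup.mem_normalizer_iff.1 h y).1 (Subgroup.mem_zpowers y), fun h => ?_⟩
  refine Subgroup.mem_normalizer_iff.2 fun z => ⟨fun hz => conj_mem_zpowers h hz, fun hz => ?_⟩
  let f : Subgroup.zpowers y → Subgroup.zpowers y := fun a =>
    ⟨g * a * g⁻¹, conj_mem_zpowers h a.2⟩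
  have hf : Function.Injective f := fun a b hab => Subtype.ext (by
    simpa [f] using congrArg Subtype.val hab)
  obtain ⟨a, ha⟩ := (Finite.injective_iff_surjective.1 hf) ⟨_, hz⟩
  have : (a : A) = z := by simpa [f] using congrArg Subtype.val ha
  exact this ▸ a.2

theorem centralizer_le_nrm : Subgroup.centralizer ({y} : Set A) ≤ nrm y := fun g hg => by
  rw [mem_nrm, Subgroup.mem_centralizer_singleton_iff.1 hg, mul_inv_cancel_right]
  exact Subgroup.mem_zpowers y

/-- An involution normalizing a group of prime order centralizes or inverts it. -/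
theorem commute_or_invert (hp : p.Prime) (hy : orderOf y = p) (hg : g * g = 1) (h : g ∈ nrm y) :
    g * y * g⁻¹ = y ∨ g * y * g⁻¹ = y⁻¹ := by
  obtain ⟨k, hk⟩ := Subgroup.mem_zpowers_iff.1 (mem_nrm.1 h)
  have h1 : y ^ (k * k) = y := by
    rw [zpow_mul, hk, conj_zpow, hk, inv_eq_of_mul_eq_one_right hg,
      show g * (g * y * g) * g = g * g * y * (g * g) by simp [mul_assoc], hg, one_mul, mul_one]
  have h2 : y ^ (k * k - 1) = 1 := by rw [zpow_sub_one, h1, mul_inv_cancel]
  have h3 := orderOf_dvd_iff_zpow_eq_one.2 h2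
  rw [hy, show k * k - 1 = (k - 1) * (k + 1) by ring] at h3
  rw [← hk]
  rcases (Nat.prime_iff_prime_int.1 hp).dvd_mul.1 h3 with h4 | h4 <;>
    rw [← hy, orderOf_dvd_iff_zpow_eq_one] at h4
  · left; rwa [zpow_sub_one, mul_inv_eq_one] at h4
  · right; rw [zpow_add_one] at h4; exact eq_inv_of_mul_eq_one_left h4

/-- The number of Sylow subgroups, for a Sylow subgroup of prime order. -/
theorem exists_count (hp : p.Prime) (hy : orderOf y = p) (hv : ¬ p ^ 2 ∣ Nat.card A) :
    ∃ n, n % p = 1 ∧ n * Nat.card (nrm y) = Nat.card A := by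
  haveI : Fact p.Prime := ⟨hp⟩
  have hd : p ^ 1 ∣ Nat.card A := by rw [pow_one, ← hy]; exact orderOf_dvd_natCard y
  have hA : Nat.card A ≠ 0 := Nat.card_pos.ne'
  have h1 := (hp.pow_dvd_iff_le_factorization hA).1 hd
  have h2 : ¬ 2 ≤ (Nat.card A).factorization p := fun hh =>
    hv ((hp.pow_dvd_iff_le_factorization hA).2 hh)
  have hf : (Nat.card A).factorization p = 1 := by omega
  let P : Sylow p A := Sylow.ofCard (Subgroup.zpowers y) (by rw [Nat.card_zpowers, hy, hf, pow_one])
  refine ⟨Nat.card (Sylow p A), ?_, ?_⟩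
  · have := card_sylow_modEq_one p A
    rwa [Nat.ModEq, Nat.one_mod_eq_one.2 hp.ne_one] at this
  · rw [Sylow.card_eq_index_normalizer P]
    exact Subgroup.index_mul_card _

end CfsgLib.JankoUnique
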