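import Cfsg.Agent.Lib.JankoUnique.ModelFacts
import Cfsg.Agent.Lib.JankoUnique.Sylows
import Cfsg.Agent.Lib.JankoCent.Main

/-!
# The sign of one involution in the centralizer of another
-/

set_option autoImplicit false
set_option linter.style.haveILetI false
set_option maxRecDepth 100000

namespace CfsgLib.JankoUnique

open CfsgLib.JankoCent

variable {G : Type*} [Group G] {t u v a b : G}

/-- An involution. -/
def IsInvol (a : G) : Prop := a * a = 1 ∧ a ≠ 1

theorem IsInvol.orderOf_eq (h : IsInvol a) : orderOf a = 2 :=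
  orderOf_eq_prime (by rw [sq, h.1]) h.2

theorem IsInvol.inv_eq (h : IsInvol a) : a⁻¹ = a := inv_eq_of_mul_eq_one_right h.1

theorem isInvol_of_orderOf (h : orderOf a = 2) : IsInvol a := ⟨sq_t h, t_ne_one h⟩

theorem IsInvol.conj (h : IsInvol a) (g : G) : IsInvol (g * a * g⁻¹) :=
  ⟨by rw [show g * a * g⁻¹ * (g * a * g⁻¹) = g * (a * a) * g⁻¹ by group, h.1]; group,
    fun hh => h.2 (by simpa using hh)⟩

/-- The hypotheses on the group. -/
structure IsModelGroup (G : Type*) [Group G] : Prop where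
  equiv : ∀ u : G, IsInvol u → Nonempty (Ct u ≃* M)
  conj : ∀ u v : G, IsInvol u → IsInvol v → ∃ g, g * u * g⁻¹ = v
  card : Nat.card G = 175560
  two : ∀ (a : G) (k : ℕ), a ^ (2 ^ k) = 1 → a * a = 1

/-- The centralizer of a conjugate. -/
theorem nonempty_equiv_conj (e : Ct t ≃* M) {g : G} (h : g * t * g⁻¹ = u) :
    Nonempty (Ct u ≃* M) := by
  subst h
  refine ⟨MulEquiv.trans ?_ e⟩
  exact
    { toFun := fun a => ⟨g⁻¹ * a * g, mem_Ct.2 (by
        have := mem_Ct.1 a.2
        calc g⁻¹ * (a : G) * g * t = g⁻¹ * ((a : G) * (g * t * g⁻¹)) * g := by group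
          _ = g⁻¹ * ((g * t * g⁻¹) * a) * g := by rw [this]
          _ = t * (g⁻¹ * a * g) := by group)⟩
      invFun := fun a => ⟨g * a * g⁻¹, mem_Ct.2 (by
        calc g * (a : G) * g⁻¹ * (g * t * g⁻¹) = g * ((a : G) * t) * g⁻¹ := by group
          _ = g * (t * a) * g⁻¹ := by rw [mem_Ct.1 a.2]
          _ = g * t * g⁻¹ * (g * a * g⁻¹) := by group)⟩
      left_inv := fun a => Subtype.ext (by simp [mul_assoc])
      right_inv := fun a => Subtype.ext (by simp [mul_assoc])
      map_mul' := fun a b => Subtype.ext (by simp [mul_assoc]) }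

theorem isModelGroup [Fintype G] [IsSimpleGroup G] (ht : orderOf t = 2) (e : Ct t ≃* M)
    (hP : ∃ P : Sylow 2 G, t ∈ P ∧ ∀ x ∈ P, x * t = t * x) : IsModelGroup G where
  card := order_eq ht e hP
  equiv u hu := by
    obtain ⟨g, hg⟩ := isConj_iff.1 (conj_of_involution ht e (order_mod e hP).1 hu.orderOf_eq)
    exact nonempty_equiv_conj e hg
  conj u v hu hv := isConj_iff.1 ((conj_of_involution ht e (order_mod e hP).1 hu.orderOf_eq).symm.trans
    (conj_of_involution ht e (order_mod e hP).1 hv.orderOf_eq))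
  two a k ha := by
    haveI : Fact (Nat.Prime 2) := ⟨Nat.prime_two⟩
    have h16 := (order_mod e hP).1
    obtain ⟨j, -, hj⟩ := (Nat.dvd_prime_pow Nat.prime_two).1 (orderOf_dvd_of_pow_eq_one ha)
    obtain ⟨Q, hQ⟩ := (IsPGroup.of_card (p := 2) (n := j)
      (by rw [Nat.card_zpowers, hj]) : IsPGroup 2 (Subgroup.zpowers a)).exists_le_sylow
    obtain ⟨g, hg⟩ := MulAction.exists_smul_eq G Q (sylP e h16)
    have haQ : g * a * g⁻¹ ∈ sylT e := by
      rw [← mem_sylP e h16, ← hg]
      exact Subgroup.smul_mem_pointwise_smul a (MulAut.conj g) _ (hQ (Subgroup.mem_zpowers a))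
    by_cases h1 : g * a * g⁻¹ = 1
    · have : a = 1 := by simpa using h1
      rw [this, one_mul]
    · have := isInv_of_mem_sylT e haQ h1
      rw [show g * a * g⁻¹ * (g * a * g⁻¹) = g * (a * a) * g⁻¹ by group] at this
      simpa using this

/-! ## Coordinates of commuting elements -/

/-- An element commuting with `u`, inside the centralizer. -/
def inC (h : Commute a u) : Ct u := ⟨a, mem_Ct.2 h.eq⟩

theorem cc_inv (e : Ct u ≃* M) (x : Ct u) : cc e x⁻¹ = tinv (cc e x) := by
  rw [cc, map_inv, coords_inv]; rfl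

theorem isInv_inC (e : Ct u ≃* M) (h : Commute a u) (ha : IsInvol a) : isInv (cc e (inC h)) :=
  (isInv_iff e _).2 ha

theorem cc_inC_ne (e : Ct u ≃* M) (ha : Commute a u) (hb : Commute b u) (hne : a ≠ b) :
    cc e (inC ha) ≠ cc e (inC hb) :=
  fun h => hne (congrArg Subtype.val (cc_injective e h))

theorem cc_inC_ne_tT (e : Ct u ≃* M) (hu : IsInvol u) (ha : Commute a u) (hne : a ≠ u) :
    cc e (inC ha) ≠ tT :=
  fun h => hne ((eq_tC_iff e hu.orderOf_eq (inC ha)).2 h)

/-- Elements of one class are conjugate inside the centralizer. -/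
theorem exists_conj_of_cls (e : Ct u ≃* M) {x y : Ct u} (h : cls (cc e x) = cls (cc e y)) :
    ∃ c : Ct u, c * x * c⁻¹ = y := by
  obtain ⟨p, hp, hpx⟩ := conj_rep _ (cc_mem e x)
  obtain ⟨q, hq, hqy⟩ := conj_rep _ (cc_mem e y)
  obtain ⟨p', rfl⟩ := cc_surj e hp
  obtain ⟨q', rfl⟩ := cc_surj e hq
  obtain ⟨r, hr⟩ := cc_surj e (rep_mem (cls (cc e x)))
  rw [← h, ← hr] at hqy
  rw [← hr] at hpx
  simp only [cc] at hpx hqy
  rw [← coords_conj, ← map_inv, ← map_mul, ← map_mul] at hpx hqy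
  refine ⟨q'⁻¹ * p', ?_⟩
  rw [← e.injective (coords_injective hpx), ← e.injective (coords_injective hqy)]
  group

/-! ## The derived subgroup of the centralizer -/

/-- `v` is a commutator in the centralizer of `u`. -/
def Inn (u v : G) : Prop := ∃ p q : G, Commute p u ∧ Commute q u ∧ p * q * p⁻¹ * q⁻¹ = v

theorem inn_conj (g : G) : Inn (g * u * g⁻¹) (g * v * g⁻¹) ↔ Inn u v := by
  have key : ∀ (g u v : G), Inn u v → Inn (g * u * g⁻¹) (g * v * g⁻¹) := by
    rintro g u v ⟨p, q, hp, hq, rfl⟩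
    exact ⟨g * p * g⁻¹, g * q * g⁻¹, Commute.conj_iff g |>.2 hp, Commute.conj_iff g |>.2 hq,
      by group⟩
  refine ⟨fun h => ?_, key g u v⟩
  simpa [mul_assoc] using key g⁻¹ _ _ h

theorem inn_iff (e : Ct u ≃* M) (x : Ct u) : Inn u (x : G) ↔ (cc e x).1 = false := by
  constructor
  · rintro ⟨p, q, hp, hq, h⟩
    have : x = inC hp * inC hq * (inC hp)⁻¹ * (inC hq)⁻¹ := Subtype.ext h.symm
    rw [this, cc_mul, cc_mul, cc_mul, cc_inv, cc_inv]
    exact tcomm_fst _ _
  · intro h
    obtain ⟨y, hy, z, hz, hyz⟩ := comm_exists _ (cc_mem e x) h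
    obtain ⟨p, rfl⟩ := cc_surj e hy
    obtain ⟨q, rfl⟩ := cc_surj e hz
    refine ⟨p, q, mem_Ct.1 p.2, mem_Ct.1 q.2, ?_⟩
    rw [tcomm, ← cc_inv, ← cc_inv, ← cc_mul, ← cc_mul, ← cc_mul] at hyz
    exact congrArg Subtype.val (cc_injective e hyz)

variable (hG : IsModelGroup G)

include hG

theorem inn_mul (hu : IsInvol u) (ha : Commute a u) (hb : Commute b u) :
    Inn u (a * b) ↔ (Inn u a ↔ Inn u b) := by
  obtain ⟨e⟩ := hG.equiv u hu
  have hab := inn_iff e (inC ha * inC hb)
  have h1 := inn_iff e (inC ha)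
  have h2 := inn_iff e (inC hb)
  simp only [inC, Subgroup.coe_mul] at h1 h2 hab
  rw [hab, h1, h2, cc_mul, fst_mul]
  cases (cc e _).1 <;> cases (cc e _).1 <;> simp

theorem not_inn_self (hu : IsInvol u) : ¬ Inn u u := by
  obtain ⟨e⟩ := hG.equiv u hu
  rw [show u = ((tC u : Ct u) : G) from rfl]
  intro h
  have := (inn_iff e (tC u)).1 h
  rw [cc_tC e hu.orderOf_eq] at this
  exact absurd this (by decide)

theorem inn_of_cube (hu : IsInvol u) (ha : Commute a u) (h : a ^ 3 = 1) : Inn u a := by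
  obtain ⟨e⟩ := hG.equiv u hu
  refine (inn_iff e (inC ha)).2 (odd_fst _ (cc_mem e _) ?_)
  rw [← cc_pow, show inC ha ^ 3 = 1 from Subtype.ext h, cc_one]

/-- For two commuting involutions exactly one is inner for the other. -/
theorem inn_comm_iff (hu : IsInvol u) (hv : IsInvol v) (huv : Commute u v) (hne : u ≠ v) :
    Inn u v ↔ ¬ Inn v u := by
  by_contra hcon
  have hiff : Inn u v ↔ Inn v u := by tauto
  obtain ⟨g, hg⟩ := hG.conj u v hu hv
  have hgv : Commute (g * v * g⁻¹) v := by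
    have := (Commute.conj_iff g).2 huv.symm
    rwa [hg] at this
  obtain ⟨e⟩ := hG.equiv v hv
  have hw : g * v * g⁻¹ ≠ v := fun h => hne (by
    have h' := hg.trans h.symm
    simpa using h')
  have hs : Inn v (g * v * g⁻¹) ↔ Inn v u := by
    have := inn_conj (u := u) (v := v) g
    rw [hg] at this
    exact this.trans hiff
  have hcls : cls (cc e (inC hgv)) = cls (cc e (inC huv)) := by
    rw [cls_of_fst _ (cc_mem e _) (isInv_inC e hgv (hv.conj g)) (cc_inC_ne_tT e hv hgv hw),
      cls_of_fst _ (cc_mem e _) (isInv_inC e huv hu) (cc_inC_ne_tT e hv huv hne)]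
    have h1 : Inn v (g * v * g⁻¹) ↔ (cc e (inC hgv)).1 = false := inn_iff e (inC hgv)
    have h2 : Inn v u ↔ (cc e (inC huv)).1 = false := inn_iff e (inC huv)
    have hb : ∀ p q : Bool, (p = false ↔ q = false) → p = q := by decide
    exact congrArg (fun p : Bool => if p = true then (6 : Fin 10) else 1)
      (hb _ _ (h1.symm.trans (hs.trans h2)))
  obtain ⟨c, hc⟩ := exists_conj_of_cls e hcls
  have hc' : (c : G) * (g * v * g⁻¹) * (c : G)⁻¹ = u := congrArg Subtype.val hc
  have hn2 : (c : G) * g * v * ((c : G) * g)⁻¹ = u := by rw [← hc']; group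
  have hn1 : (c : G) * g * u * ((c : G) * g)⁻¹ = v := by
    rw [show (c : G) * g * u * ((c : G) * g)⁻¹ = (c : G) * (g * u * g⁻¹) * (c : G)⁻¹ by group, hg,
      mem_Ct.1 c.2, mul_inv_cancel_right]
  generalize (c : G) * g = n at hn1 hn2
  have hz : IsInvol (u * v) := ⟨by
      rw [show u * v * (u * v) = u * (v * u) * v by simp [mul_assoc], ← huv.eq,
        show u * (u * v) * v = u * u * (v * v) by simp [mul_assoc], hu.1, hv.1, one_mul],
    fun h => hne ((eq_inv_of_mul_eq_one_left h).trans hv.inv_eq)⟩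
  have hnz : n * (u * v) * n⁻¹ = u * v := by
    rw [show n * (u * v) * n⁻¹ = n * u * n⁻¹ * (n * v * n⁻¹) by group, hn1, hn2, huv.eq]
  have h3 : Inn (u * v) v ↔ Inn (u * v) u := by
    have := inn_conj (u := u * v) (v := u) n
    rwa [hnz, hn1] at this
  have h4 := inn_mul hG hz ((Commute.refl u).mul_right huv) (Commute.refl (u * v))
  rw [show u * (u * v) = v by rw [← mul_assoc, hu.1, one_mul]] at h4
  have h5 := not_inn_self hG hz
  tauto

end CfsgLib.JankoUnique
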