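import Cfsg.Agent.Lib.JankoUnique.Five

/-!
# The involutions in a centralizer of order thirty
-/

set_option autoImplicit false
set_option linter.style.haveILetI false
set_option maxRecDepth 100000

namespace CfsgLib.JankoUnique

open CfsgLib.JankoCent

variable {G : Type*} [Group G] [Finite G] {u r x i g : G}
variable (hG : IsModelGroup G)

include hG

/-- Two involutions centralizing an element of order five have product of order dividing three. -/
theorem cube_eq_one (h5 : orderOf x = 5) (hu : IsInvol u) (hr : IsInvol r) (hxu : Commute x u)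
    (hxr : Commute x r) (hne : r ≠ u) : (r * u) ^ 3 = 1 := by
  obtain ⟨hC, -⟩ := cent_five hG h5 hu hxu
  let d : Ct x := ⟨r * u, mem_Ct.2 ((hxr.mul_right hxu).symm).eq⟩
  -- the odd part
  have hinv : ∀ n : ℕ, u * (r * u) ^ n * u⁻¹ = ((r * u) ^ n)⁻¹ := by
    intro n
    rw [← conj_pow, ← inv_pow, mul_inv_rev, hu.inv_eq, hr.inv_eq,
      show u * (r * u) * u = u * r * (u * u) by simp [mul_assoc], hu.1, mul_one]
  have h30 : (r * u) ^ 30 = 1 := by
    have h1 : d ^ Nat.card (Ct x) = 1 := pow_card_eq_one'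
    rw [hC] at h1
    exact congrArg Subtype.val h1
  have h15 : (r * u) ^ 15 = 1 := by
    by_contra h
    have hv : IsInvol ((r * u) ^ 15) := ⟨by rw [← pow_add]; exact h30, h⟩
    have hvu : Commute ((r * u) ^ 15) u := by
      have := hinv 15
      rw [hv.inv_eq, mul_inv_eq_iff_eq_mul] at this
      exact this.symm
    have hvr : Commute ((r * u) ^ 15) r := by
      have h1 : Commute ((r * u) ^ 15) (r * u) := Commute.pow_self _ _
      have h2 := h1.mul_right hvu
      rwa [mul_assoc, hu.1, mul_one] at h2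
    have hxv : Commute x ((r * u) ^ 15) := (hxr.mul_right hxu).pow_right 15
    exact hne ((eq_of_commute hG h5 hr hv.1 hv.2 hxr hxv hvr).symm.trans
      (eq_of_commute hG h5 hu hv.1 hv.2 hxu hxv hvu))
  -- the square of the fifth part
  let X : Subgroup (Ct x) := (Subgroup.zpowers x).subgroupOf (Ct x)
  haveI : X.Normal := ⟨fun a ha b => by
    obtain ⟨k, hk⟩ := Subgroup.mem_zpowers_iff.1 (Subgroup.mem_subgroupOf.1 ha)
    refine Subgroup.mem_subgroupOf.2 (Subgroup.mem_zpowers_iff.2 ⟨k, ?_⟩)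
    rw [hk]
    have hcomm : Commute (b : G) (a : G) := by rw [← hk]; exact (show Commute (b : G) x from mem_Ct.1 b.2).zpow_right k
    simp [hcomm.eq]⟩
  have hX : X.index = 6 := by
    have h1 := X.index_mul_card
    rw [hC, Nat.card_congr (Subgroup.subgroupOfEquivOfLe (Subgroup.zpowers_le.2 (mem_Ct.2 rfl :
      x ∈ Ct x))).toEquiv, Nat.card_zpowers, h5] at h1
    omega
  have h6 : (r * u) ^ 6 ∈ Subgroup.zpowers x := by
    have := Subgroup.pow_index_mem X d
    rw [hX] at this
    exact Subgroup.mem_subgroupOf.1 this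
  obtain ⟨k, hk⟩ := Subgroup.mem_zpowers_iff.1 h6
  have h12 : (r * u) ^ 12 = 1 := by
    have h1 : u * (r * u) ^ 6 * u⁻¹ = (r * u) ^ 6 := by
      rw [← hk, ((hxu.symm).zpow_right k).eq, mul_inv_cancel_right]
    rw [hinv] at h1
    rw [show 12 = 6 + 6 from rfl, pow_add]
    nth_rewrite 1 [← h1]
    exact inv_mul_cancel _
  exact (pow_gcd_eq_one (a := r * u) (m := 15) (n := 12)).2 ⟨h15, h12⟩

theorem exists_other (h5 : orderOf x = 5) (hu : IsInvol u) (hxu : Commute x u) :
    ∃ r, IsInvol r ∧ Commute x r ∧ r ≠ u := by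
  obtain ⟨hC, -⟩ := cent_five hG h5 hu hxu
  by_contra h
  have hle : Ct x ≤ Ct u := fun g hg => by
    refine mem_Ct.2 (mul_inv_eq_iff_eq_mul.1 ?_)
    by_contra hne
    refine h ⟨_, hu.conj g, ?_, hne⟩
    have := (Commute.conj_iff g).2 hxu
    rwa [(mul_inv_eq_iff_eq_mul.2 (mem_Ct.1 hg) : g * x * g⁻¹ = x)] at this
  obtain ⟨e⟩ := hG.equiv u hu
  have := Subgroup.card_dvd_of_le hle
  obtain ⟨e', hne, hpow⟩ := five_facts hG hu hxu h5
  have h10 : Nat.card {a : Ct u // tmul (cc e' (inC hxu)) (cc e' a) =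
      tmul (cc e' a) (cc e' (inC hxu))} = 10 := by
    rw [countP_eq_card e' (fun y => tmul (cc e' (inC hxu)) y = tmul y (cc e' (inC hxu))),
      five_cent _ (cc_mem e' _) hpow hne]
  have hinj : Nat.card (Ct x) ≤ 10 := by
    rw [← h10]
    refine Nat.card_le_card_of_injective (fun a : Ct x => ⟨⟨a, hle a.2⟩, ?_⟩) fun a b hab =>
      Subtype.ext (congrArg (fun z => (z.1 : G)) hab)
    rw [← cc_mul, ← cc_mul]
    exact congrArg (cc e') (Subtype.ext (mem_Ct.1 a.2).symm)
  omega

/-- An inverting involution fixes one of the other involutions, up to the central one. -/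
theorem inverter_fix (h5 : orderOf x = 5) (hu : IsInvol u) (hr : IsInvol r) (hi : IsInvol i)
    (hxu : Commute x u) (hxr : Commute x r) (hiu : Commute i u) (hix : i * x * i⁻¹ = x⁻¹)
    (hne : r ≠ u) : Commute i r ∨ Commute (u * i) r := by
  obtain ⟨hC, -⟩ := cent_five hG h5 hu hxu
  have hd1 : r * u ≠ 1 := fun h => hne ((eq_inv_of_mul_eq_one_left h).trans hu.inv_eq)
  haveI : Fact (Nat.Prime 3) := ⟨Nat.prime_three⟩
  have hd3 : orderOf (r * u) = 3 := orderOf_eq_prime (cube_eq_one hG h5 hu hr hxu hxr hne) hd1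
  have hdC : r * u ∈ Ct x := mem_Ct.2 ((hxr.mul_right hxu).symm).eq
  let d : Ct x := ⟨r * u, hdC⟩
  have hd3' : orderOf d = 3 := by rw [← Subgroup.orderOf_coe]; exact hd3
  -- the group of order three is normal
  have hnorm : nrm d = ⊤ := by
    refine Subgroup.eq_top_of_card_eq _ (Nat.dvd_antisymm (Subgroup.card_subgroup_dvd_card _) ?_)
    rw [hC]
    have h2 : 2 ∣ Nat.card (nrm d) := by
      have hu' : orderOf (⟨u, mem_Ct.2 hxu.symm.eq⟩ : Ct x) = 2 := by
        rw [← Subgroup.orderOf_coe]; exact hu.orderOf_eq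
      rw [← hu']
      refine Subgroup.orderOf_dvd_natCard _ (mem_nrm.2 ?_)
      refine Subgroup.mem_zpowers_iff.2 ⟨-1, Subtype.ext ?_⟩
      simp [d, hu.inv_eq, hr.inv_eq, mul_assoc, hu.1]
    have h5' : 5 ∣ Nat.card (nrm d) := by
      have hx' : orderOf (⟨x, mem_Ct.2 rfl⟩ : Ct x) = 5 := by
        rw [← Subgroup.orderOf_coe]; exact h5
      rw [← hx']
      exact Subgroup.orderOf_dvd_natCard _ (centralizer_le_nrm (mem_Ct.2 (Subtype.ext
        (mem_Ct.1 hdC).symm)))
    have h3 : 3 ∣ Nat.card (nrm d) :=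
      hd3' ▸ Subgroup.orderOf_dvd_natCard _ (centralizer_le_nrm (mem_Ct.2 rfl))
    exact Nat.Coprime.mul_dvd_of_dvd_of_dvd (by norm_num : Nat.Coprime 6 5)
      (Nat.Coprime.mul_dvd_of_dvd_of_dvd (by norm_num : Nat.Coprime 2 3) h2 h3) h5'
  let D : Subgroup (Ct x) := Subgroup.zpowers d
  haveI : D.Normal := ⟨fun a ha b =>
    conj_mem_zpowers (mem_nrm.1 (hnorm ▸ Subgroup.mem_top b)) ha⟩
  have hD : D.index = 10 := by
    have h1 := D.index_mul_card
    rw [hC, Nat.card_zpowers, hd3'] at h1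
    omega
  have hiN : i ∈ nrm (r * u) := by
    have hmem : i * (r * u) * i⁻¹ ∈ Ct x := by
      refine mem_Ct.2 ?_
      have h1 := (Commute.conj_iff i).2 (show Commute (r * u) x⁻¹ from (show Commute (r * u) x from mem_Ct.1 hdC).inv_right)
      rw [← conj_inv, hix, inv_inv] at h1
      exact h1.eq
    have h1 := Subgroup.pow_index_mem D ⟨_, hmem⟩
    rw [hD] at h1
    obtain ⟨k, hk⟩ := Subgroup.mem_zpowers_iff.1 h1
    refine mem_nrm.2 (Subgroup.mem_zpowers_iff.2 ⟨k, ?_⟩)
    have hk' := congrArg Subtype.val hk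
    simp only [Subgroup.coe_pow, Subgroup.coe_zpow, d] at hk'
    rw [hk', conj_pow, show (r * u) ^ 10 = ((r * u) ^ 3) ^ 3 * (r * u) by rw [← pow_mul, ← pow_succ],
      cube_eq_one hG h5 hu hr hxu hxr hne, one_pow, one_mul]
  have hru : r = r * u * u := by rw [mul_assoc, hu.1, mul_one]
  rcases commute_or_invert Nat.prime_three hd3 hi.1 hiN with h | h
  · left
    rw [hru]
    exact (show Commute i (r * u) from mul_inv_eq_iff_eq_mul.1 h).mul_right hiu
  · right
    rw [hru]
    refine Commute.mul_right (mul_inv_eq_iff_eq_mul.1 ?_ : u * i * (r * u) = r * u * (u * i)) ?_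
    · rw [show u * i * (r * u) * (u * i)⁻¹ = u * (i * (r * u) * i⁻¹) * u⁻¹ by group, h, mul_inv_rev,
        hr.inv_eq, hu.inv_eq, show u * (u * r) * u = u * u * (r * u) by simp [mul_assoc], hu.1,
        one_mul]
    · exact (Commute.refl u).mul_left hiu

end CfsgLib.JankoUnique
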